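import Cfsg.Agent.H15.NS.ON.D0

/-! Generated by tools/h15/ns/gen.py (kit tools/h0/tr). -/

set_option maxRecDepth 100000
set_option maxHeartbeats 0

namespace H15.NS.ON
open H16 H0.TR
open scoped commutatorElement

theorem cpe_q_3_0 : allZ (matEnt cpe_P cpe_Q (nat_lit 3)) (nat_lit 0) (nat_lit 8448) = true := by decide +kernel
theorem cle_q_6_0 : allZ (matEnt cle_P cle_Q (nat_lit 6)) (nat_lit 0) (nat_lit 6848) = true := by decide +kernel
theorem cle_q_5_0 : allZ (matEnt cle_P cle_Q (nat_lit 5)) (nat_lit 0) (nat_lit 8320) = true := by decide +kernel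
theorem cle_q_7_1 : allZ (matEnt cle_P cle_Q (nat_lit 7)) (nat_lit 6784) (nat_lit 6784) = true := by decide +kernel
theorem cpe_q_0_0 : allZ (matEnt cpe_P cpe_Q (nat_lit 0)) (nat_lit 0) (nat_lit 7744) = true := by decide +kernel
theorem cle_q_4_1 : allZ (matEnt cle_P cle_Q (nat_lit 4)) (nat_lit 6336) (nat_lit 6336) = true := by decide +kernel
theorem cpe_q_2_1 : allZ (matEnt cpe_P cpe_Q (nat_lit 2)) (nat_lit 6400) (nat_lit 6400) = true := by decide +kernel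
theorem cle_q_2_1 : allZ (matEnt cle_P cle_Q (nat_lit 2)) (nat_lit 6976) (nat_lit 6944) = true := by decide +kernel
theorem cl31_0 : allZ (clEnt cne_P (wdsP Tm wW) 67 68 B1 cl31L en30W) (nat_lit 0) (nat_lit 21) = true := by decide +kernel
theorem cl31_1 : allZ (clEnt cne_P (wdsP Tm wW) 67 68 B1 cl31L en30W) (nat_lit 21) (nat_lit 21) = true := by decide +kernel
theorem cle_q_1_0 : allZ (matEnt cle_P cle_Q (nat_lit 1)) (nat_lit 0) (nat_lit 13920) = true := by decide +kernel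
theorem cpe_q_3_1 : allZ (matEnt cpe_P cpe_Q (nat_lit 3)) (nat_lit 8448) (nat_lit 5472) = true := by decide +kernel
theorem cpe_q_1_0 : allZ (matEnt cpe_P cpe_Q (nat_lit 1)) (nat_lit 0) (nat_lit 13920) = true := by decide +kernel
theorem t_r_5_0 : allZ (resEnt t_P tP tE tI (nat_lit 13920) (nat_lit 1792) (nat_lit 5)) (nat_lit 0) (nat_lit 1792) = true := by decide +kernel
theorem t_r_8_0 : allZ (resEnt t_P tP tE tI (nat_lit 13920) (nat_lit 1792) (nat_lit 8)) (nat_lit 0) (nat_lit 1792) = true := by decide +kernel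
theorem cl49_0 : allZ (clEnt cle_Q (pk (wdsP Tm wW) [10, 11, 9, 6, 63, 63, 0, 1]) 4 8 B1 cl49L en48W) (nat_lit 0) (nat_lit 256) = true := by decide +kernel
theorem t_r_0_0 : allZ (resEnt t_P tP tE tI (nat_lit 13920) (nat_lit 1792) (nat_lit 0)) (nat_lit 0) (nat_lit 1792) = true := by decide +kernel
theorem t_r_7_0 : allZ (resEnt t_P tP tE tI (nat_lit 13920) (nat_lit 1792) (nat_lit 7)) (nat_lit 0) (nat_lit 1792) = true := by decide +kernel
theorem cle_q_4_2 : allZ (matEnt cle_P cle_Q (nat_lit 4)) (nat_lit 12672) (nat_lit 1248) = true := by decide +kernel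
theorem cl40_0 : allZ (clEnt t_P t_P 10 11 B1 cl40L en39W) (nat_lit 0) (nat_lit 64) = true := by decide +kernel
theorem cpe_q_2_2 : allZ (matEnt cpe_P cpe_Q (nat_lit 2)) (nat_lit 12800) (nat_lit 1120) = true := by decide +kernel
theorem en48a_a : allZ2 (tupEnt cle_Q en48T en48N (nat_lit 13920) (nat_lit 256) (nat_lit 3)) (nat_lit 8) (nat_lit 256) = true := by decide +kernel
theorem cl49b : H16.allL (litChk (pk (wdsP Tm wW) [10, 11, 9, 6, 63, 63, 0, 1]) 8 B1) (cl49A.map fun l => (!l.1, l.2)) = true := by decide +kernel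
theorem cttn1_1_0 : allZ (cttn1.ent Tm ctth_P ctx_P ctx_P cte_P (nat_lit 6) (nat_lit 3) B1 cttl0 [cttl1, cttl2, cttl3] (fun w => Nat.xor w (cttl0.Pt (nat_lit 0)))) (nat_lit 0) (nat_lit 480) = true := by decide +kernel
theorem cktn1_1_0 : allZ (cktn1.ent Tm ckth_P ckx_P ckx_P cke_P (nat_lit 6) (nat_lit 2) B1 cktl0 [cktl1, cktl2, cktl3] (memO ckc0)) (nat_lit 0) (nat_lit 480) = true := by decide +kernel
theorem en30a_a : allZ2 (tupEnt cne_P en30T en30N (nat_lit 13920) (nat_lit 64) (nat_lit 3)) (nat_lit 5) (nat_lit 64) = true := by decide +kernel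
theorem cytn1_1_0 : allZ (cytn1.ent Tm cyth_P cyx_P cyx_P cye_P (nat_lit 6) (nat_lit 3) B1 cytl0 [cytl1, cytl2] (memO cyc0)) (nat_lit 0) (nat_lit 480) = true := by decide +kernel
theorem cptn2_1_0 : allZ (cptn2.ent Tm cpth_P pf_P pf_P cpe_P (nat_lit 6) (nat_lit 2) B1 cptl0 [cptl1, cptl2, cptl3] (memO cpc0)) (nat_lit 0) (nat_lit 480) = true := by decide +kernel
theorem co42_0 : allZ (comEnt (pk (catP (wdsP P wG) 67 (wdsP P uW)) [93, 94]) (pk (catP (wdsP P wG) 67 (wdsP P uW)) [93, 94]) 2 H16.TON.B co42U co42V) (nat_lit 0) (nat_lit 2) = true := by decide +kernel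
theorem en48b_0 : allZ (enEnt cle_Q en48T en48W (nat_lit 3)) (nat_lit 0) (nat_lit 256) = true := by decide +kernel
theorem le32_0 : allZ (leEnt (pk (catP (wdsP P wG) 67 (wdsP P uW)) [61, 62, 89]) (pk (catP (wdsP P wG) 67 (wdsP P uW)) [0, 82, 83]) 3 H16.TON.B le32W) (nat_lit 0) (nat_lit 3) = true := by decide +kernel
theorem cl10_0 : allZ (clEnt (wdsP (wdsP P mW) bie_W) (catP (wdsP P wG) 67 (wdsP P uW)) 95 (67 + 29) H16.TON.B cl10L en9W) (nat_lit 0) (nat_lit 4) = true := by decide +kernel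
theorem rG0k : H16.allL (litChk (catP (wdsP P wG) 67 (wdsP P uW)) (67 + 29) H16.TON.B) [(true, [nat_lit 67, nat_lit 68], [nat_lit 68, nat_lit 0]), (true, [nat_lit 0, nat_lit 71], [nat_lit 71, nat_lit 9]), (true, [nat_lit 9, nat_lit 71], [nat_lit 71, nat_lit 9, nat_lit 0]), (true, [nat_lit 9, nat_lit 73], [nat_lit 73, nat_lit 9]), (true, [nat_lit 9, nat_lit 74], [nat_lit 74, nat_lit 9]), (true, [nat_lit 9, nat_lit 72], [nat_lit 72, nat_lit 9]), (true, [nat_lit 15, nat_lit 72], [nat_lit 72, nat_lit 15]), (true, [nat_lit 0, nat_lit 73], [nat_lit 73, nat_lit 15]), (true, [nat_lit 0, nat_lit 74], [nat_lit 74, nat_lit 15, nat_lit 0]), (true, [nat_lit 0, nat_lit 72], [nat_lit 72, nat_lit 9, nat_lit 0]), (true, [nat_lit 0, nat_lit 69], [nat_lit 69, nat_lit 1]), (true, [nat_lit 1, nat_lit 69], [nat_lit 69, nat_lit 1, nat_lit 0]), (true, [nat_lit 0, nat_lit 75], [nat_lit 75, nat_lit 16]),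 (true, [nat_lit 9, nat_lit 75], [nat_lit 75, nat_lit 1]), (true, [nat_lit 0, nat_lit 76], [nat_lit 76, nat_lit 16]), (true, [nat_lit 9, nat_lit 76], [nat_lit 76, nat_lit 12])] = true := by decide +kernel
theorem cle_q_7_2 : allZ (matEnt cle_P cle_Q (nat_lit 7)) (nat_lit 13568) (nat_lit 352) = true := by decide +kernel
theorem t_p : allZ2 (pcEnt tP (nat_lit 2) tB tC) 10 10 = true := by decide +kernel
theorem cl31_3 : allZ (clEnt cne_P (wdsP Tm wW) 67 68 B1 cl31L en30W) (nat_lit 63) (nat_lit 1) = true := by decide +kernel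
theorem cftl0_e_0 : allZ (dent cftl0 cfth_P (nat_lit 13920)) (nat_lit 0) (nat_lit 479) = true := by decide +kernel
theorem cvtl0_e_0 : allZ (dent cvtl0 cvth_P (nat_lit 13920)) (nat_lit 0) (nat_lit 479) = true := by decide +kernel
theorem wzptl0_e_0 : allZ (dent wzptl0 wzpth_P (nat_lit 13920)) (nat_lit 0) (nat_lit 479) = true := by decide +kernel
theorem cptl0_e_0 : allZ (dent cptl0 cpth_P (nat_lit 13920)) (nat_lit 0) (nat_lit 479) = true := by decide +kernel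
theorem cl47_0 : allZ (clEnt cpe_Q (wdsP Tm wW) 67 68 B1 cl47L en46W) (nat_lit 0) (nat_lit 72) = true := by decide +kernel
theorem cle_q_6_2 : allZ (matEnt cle_P cle_Q (nat_lit 6)) (nat_lit 13696) (nat_lit 224) = true := by decide +kernel
theorem cm60 : 3 < 29 ∧ allZ (fun j => H16.force j (cmEnt (wdsP (wdsP P mW) pf_W) (wdsP P uW) H16.TON.B 3)) 0 2 = true := by decide +kernel
theorem en46b_0 : allZ (enEnt cpe_Q en46T en46W (nat_lit 3)) (nat_lit 0) (nat_lit 72) = true := by decide +kernel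
theorem en46a_a : allZ2 (tupEnt cpe_Q en46T en46N (nat_lit 13920) (nat_lit 72) (nat_lit 3)) (nat_lit 4) (nat_lit 72) = true := by decide +kernel
theorem tl0_e_0 : allZ (dent tl0 (wdsP tP te) (nat_lit 1792)) (nat_lit 0) (nat_lit 255) = true := by decide +kernel
theorem cltl0_e_0 : allZ (dent cltl0 clth_P (nat_lit 13920)) (nat_lit 0) (nat_lit 239) = true := by decide +kernel
theorem cvtn3_0 : (Nat.ble cvtl0.K 12 && Nat.beq (ltAll 13920 []) 0 && kChk cve_P cvx_P cvtn3.Kn 3 B1 [] && H16.allL (ltAll 3) cvtn3.pre && planOK cvth_P cvx_P 3 (cvtl0.Pt 0) cvtn3.plan [cvtl0, cvtl1, cvtl2, cvtl3]) = true := by decide +kernel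
theorem uyk : H16.allL (litChk t_P 10 B1) [(true, [nat_lit 8, nat_lit 7, nat_lit 0], [nat_lit 7, nat_lit 8])] = true := by decide +kernel
theorem cytn1_0 : (Nat.ble cytl0.K 12 && Nat.beq (ltAll 13920 []) 0 && kChk cye_P cyx_P cytn1.Kn 3 B1 [] && H16.allL (ltAll 3) cytn1.pre && planOK cyth_P cyx_P 3 (cytl0.Pt 0) cytn1.plan [cytl0, cytl1, cytl2]) = true := by decide +kernel
theorem rL1k : H16.allL (litChk (wdsP Tm wW) 68 B1) [(true, [nat_lit 0, nat_lit 17], [nat_lit 17, nat_lit 0]), (true, [nat_lit 9, nat_lit 17], [nat_lit 17, nat_lit 16]), (true, [nat_lit 18, nat_lit 2], [nat_lit 19]), (true, [nat_lit 20, nat_lit 21, nat_lit 20], [nat_lit 22]), (true, [nat_lit 0, nat_lit 66], [nat_lit 66, nat_lit 0]), (true, [nat_lit 66, nat_lit 66], [nat_lit 66, nat_lit 66]), (true, [nat_lit 9, nat_lit 9], []), (true, [nat_lit 9, nat_lit 23], [nat_lit 23, nat_lit 25]), (true, [nat_lit 9, nat_lit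 24], [nat_lit 24, nat_lit 25, nat_lit 9]), (true, [nat_lit 26, nat_lit 26], []), (false, [nat_lit 26], []), (true, [nat_lit 6, nat_lit 6], [nat_lit 0]), (false, [nat_lit 2, nat_lit 1], [nat_lit 1, nat_lit 2]), (true, [nat_lit 2, nat_lit 2], []), (true, [nat_lit 9, nat_lit 1], [nat_lit 1, nat_lit 9]), (true, [nat_lit 2, nat_lit 1], [nat_lit 6])] = true := by decide +kernel
theorem rL0k : H16.allL (litChk (wdsP Tm wW) 68 B1) [(true, [nat_lit 3, nat_lit 3, nat_lit 3], []), (false, [nat_lit 3], []), (true, [nat_lit 4, nat_lit 4, nat_lit 4, nat_lit 4, nat_lit 4], []), (false, [nat_lit 4], []), (true, [nat_lit 5, nat_lit 5, nat_lit 5, nat_lit 5, nat_lit 5, nat_lit 5, nat_lit 5], []), (false, [nat_lit 5], []), (true, [nat_lit 66, nat_lit 66], []), (true, [nat_lit 0, nat_lit 0], []), (false, [nat_lit 0], []), (true, [nat_lit 1, nat_lit 1], []), (true, [nat_lit 0, nat_lit 9], [nat_lit 9,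 nat_lit 0]), (true, [nat_lit 0, nat_lit 15], [nat_lit 15, nat_lit 0]), (true, [nat_lit 0, nat_lit 1], [nat_lit 1, nat_lit 0]), (true, [nat_lit 0, nat_lit 16], [nat_lit 16, nat_lit 0]), (true, [nat_lit 1, nat_lit 16], [nat_lit 16, nat_lit 1]), (true, [nat_lit 1, nat_lit 0], [nat_lit 12])] = true := by decide +kernel
theorem cn_f4 : (Nat.ble cnc4.K 5 && Nat.ble (topK []) cnc4.K && Nat.beq (cnc4.Pt 0) (cntl4.Pt 0) && Nat.beq (ltAll 13920 [cntl3.Pt 0, cntl2.Pt 0, cntl1.Pt 0, cntl0.Pt 0]) 0 && kChk cne_P cnx_P cnc4.K 2 B1 [cntl3.Pt 0, cntl2.Pt 0, cntl1.Pt 0, cntl0.Pt 0]) = true := by decide +kernel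
theorem cv_f2 : (Nat.ble cvc2.K 4 && Nat.ble (topK [cvc3]) cvc2.K && Nat.beq (cvc2.Pt 0) (cvtl2.Pt 0) && Nat.beq (ltAll 13920 [cvtl1.Pt 0, cvtl0.Pt 0]) 0 && kChk cve_P cvx_P cvc2.K 3 B1 [cvtl1.Pt 0, cvtl0.Pt 0]) = true := by decide +kernel
theorem cy_f0 : (Nat.ble cyc0.K 3 && Nat.ble (topK [cyc2]) cyc0.K && Nat.beq (cyc0.Pt 0) (cytl0.Pt 0) && Nat.beq (ltAll 13920 []) 0 && kChk cye_P cyx_P cyc0.K 3 B1 []) = true := by decide +kernel
theorem cv_f3 : (Nat.ble cvc3.K 4 && Nat.ble (topK []) cvc3.K && Nat.beq (cvc3.Pt 0) (cvtl3.Pt 0) && Nat.beq (ltAll 13920 [cvtl2.Pt 0, cvtl1.Pt 0, cvtl0.Pt 0]) 0 && kChk cve_P cvx_P cvc3.K 3 B1 [cvtl2.Pt 0, cvtl1.Pt 0, cvtl0.Pt 0]) = true := by decide +kernel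
theorem cy_f2 : (Nat.ble cyc2.K 3 && Nat.ble (topK []) cyc2.K && Nat.beq (cyc2.Pt 0) (cytl2.Pt 0) && Nat.beq (ltAll 13920 [cytl1.Pt 0, cytl0.Pt 0]) 0 && kChk cye_P cyx_P cyc2.K 3 B1 [cytl1.Pt 0, cytl0.Pt 0]) = true := by decide +kernel
theorem cptn2_0 : (Nat.ble cptl0.K 12 && Nat.beq (ltAll 13920 []) 0 && kChk cpe_P pf_P cptn2.Kn 2 B1 [] && H16.allL (ltAll 2) cptn2.pre && planOK cpth_P pf_P 2 (cptl0.Pt 0) cptn2.plan [cptl0, cptl1, cptl2, cptl3]) = true := by decide +kernel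
theorem cl_f3 : (Nat.ble clc3.K 8 && Nat.ble (topK [clc5]) clc3.K && Nat.beq (clc3.Pt 0) (cltl3.Pt 0) && Nat.beq (ltAll 13920 [cltl2.Pt 0, cltl1.Pt 0, cltl0.Pt 0]) 0 && kChk cle_P clx_P clc3.K 1 B1 [cltl2.Pt 0, cltl1.Pt 0, cltl0.Pt 0]) = true := by decide +kernel
theorem cntn1_0 : (Nat.ble cntl2.K 11 && Nat.beq (ltAll 13920 [cntl1.Pt 0, cntl0.Pt 0]) 0 && kChk cne_P cnx_P cntn1.Kn 2 B1 [cntl1.Pt 0, cntl0.Pt 0] && H16.allL (ltAll 2) cntn1.pre && planOK cnth_P cnx_P 2 (cntl2.Pt 0) cntn1.plan [cntl2, cntl3, cntl4]) = true := by decide +kernel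
theorem cp_f2 : (Nat.ble cpc2.K 4 && Nat.ble (topK [cpc3]) cpc2.K && Nat.beq (cpc2.Pt 0) (cptl2.Pt 0) && Nat.beq (ltAll 13920 [cptl1.Pt 0, cptl0.Pt 0]) 0 && kChk cpe_P pf_P cpc2.K 2 B1 [cptl1.Pt 0, cptl0.Pt 0]) = true := by decide +kernel
theorem cttn4_0 : (Nat.ble cttl3.K 12 && Nat.beq (ltAll 13920 [cttl2.Pt 0, cttl1.Pt 0, cttl0.Pt 0]) 0 && kChk cttr4k_P cttn1y5460_P cttn4.Kn 3 B1 [cttl2.Pt 0, cttl1.Pt 0, cttl0.Pt 0] && H16.allL (ltAll 3) cttn4.pre && planOK ctth_P ctx_P 3 (cttl3.Pt 0) cttn4.plan [cttl3]) = true := by decide +kernel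
theorem cl_f2 : (Nat.ble clc2.K 8 && Nat.ble (topK [clc3, clc5]) clc2.K && Nat.beq (clc2.Pt 0) (cltl2.Pt 0) && Nat.beq (ltAll 13920 [cltl1.Pt 0, cltl0.Pt 0]) 0 && kChk cle_P clx_P clc2.K 1 B1 [cltl1.Pt 0, cltl0.Pt 0]) = true := by decide +kernel
theorem pf_r_a : allZ2 (resEnt pf_P pfP pfE pfI (nat_lit 13920) (nat_lit 27)) (nat_lit 2) (nat_lit 27) = true := by decide +kernel
theorem cptn1_0 : (Nat.ble cptl2.K 12 && Nat.beq (ltAll 13920 [cptl1.Pt 0, cptl0.Pt 0]) 0 && kChk cpe_P pf_P cptn1.Kn 2 B1 [cptl1.Pt 0, cptl0.Pt 0] && H16.allL (ltAll 2) cptn1.pre && planOK cpth_P pf_P 2 (cptl2.Pt 0) cptn1.plan [cptl2, cptl3]) = true := by decide +kernel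
theorem cvtl1_e_0 : allZ (dent cvtl1 cvth_P (nat_lit 13920)) (nat_lit 0) (nat_lit 55) = true := by decide +kernel
theorem witl1_e_0 : allZ (dent witl1 with_P (nat_lit 13920)) (nat_lit 0) (nat_lit 55) = true := by decide +kernel
theorem bi_f0 : (Nat.ble bic0.K 2 && Nat.ble (topK [bic3]) bic0.K && Nat.beq (bic0.Pt 0) (bitl0.Pt 0) && Nat.beq (ltAll 13920 []) 0 && kChk bie_P bix_P bic0.K 3 B1 []) = true := by decide +kernel
theorem cfc0_e_0 : allZ (dent cfc0 cfe_P (nat_lit 13920)) (nat_lit 0) (nat_lit 59) = true := by decide +kernel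
theorem cvtn2_0 : (Nat.ble cvtl3.K 12 && Nat.beq (ltAll 13920 [cvtl2.Pt 0, cvtl1.Pt 0, cvtl0.Pt 0]) 0 && kChk cvtr2k_P cvtn1y4826_P cvtn2.Kn 3 B1 [cvtl2.Pt 0, cvtl1.Pt 0, cvtl0.Pt 0] && H16.allL (ltAll 3) cvtn2.pre && planOK cvth_P cvx_P 3 (cvtl3.Pt 0) cvtn2.plan [cvtl3]) = true := by decide +kernel
theorem cf_f5 : (Nat.ble cfc5.K 5 && Nat.ble (topK []) cfc5.K && Nat.beq (cfc5.Pt 0) (cftl5.Pt 0) && Nat.beq (ltAll 13920 [cftl4.Pt 0, cftl3.Pt 0, cftl2.Pt 0, cftl1.Pt 0, cftl0.Pt 0]) 0 && kChk cfe_P cfx_P cfc5.K 1 B1 [cftl4.Pt 0, cftl3.Pt 0, cftl2.Pt 0, cftl1.Pt 0, cftl0.Pt 0]) = true := by decide +kernel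
theorem cl_f1 : (Nat.ble clc1.K 8 && Nat.ble (topK [clc2, clc3, clc5]) clc1.K && Nat.beq (clc1.Pt 0) (cltl1.Pt 0) && Nat.beq (ltAll 13920 [cltl0.Pt 0]) 0 && kChk cle_P clx_P clc1.K 1 B1 [cltl0.Pt 0]) = true := by decide +kernel
theorem cntn0_0 : (Nat.ble cntl4.K 11 && Nat.beq (ltAll 13920 [cntl3.Pt 0, cntl2.Pt 0, cntl1.Pt 0, cntl0.Pt 0]) 0 && kChk cne_P cnx_P cntn0.Kn 2 B1 [cntl3.Pt 0, cntl2.Pt 0, cntl1.Pt 0, cntl0.Pt 0] && H16.allL (ltAll 2) cntn0.pre && planOK cnth_P cnx_P 2 (cntl4.Pt 0) cntn0.plan [cntl4]) = true := by decide +kernel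
theorem bi_f3 : (Nat.ble bic3.K 2 && Nat.ble (topK []) bic3.K && Nat.beq (bic3.Pt 0) (bitl3.Pt 0) && Nat.beq (ltAll 13920 [bitl2.Pt 0, bitl1.Pt 0, bitl0.Pt 0]) 0 && kChk bie_P bix_P bic3.K 3 B1 [bitl2.Pt 0, bitl1.Pt 0, bitl0.Pt 0]) = true := by decide +kernel
theorem cp_f3 : (Nat.ble cpc3.K 4 && Nat.ble (topK []) cpc3.K && Nat.beq (cpc3.Pt 0) (cptl3.Pt 0) && Nat.beq (ltAll 13920 [cptl2.Pt 0, cptl1.Pt 0, cptl0.Pt 0]) 0 && kChk cpe_P pf_P cpc3.K 2 B1 [cptl2.Pt 0, cptl1.Pt 0, cptl0.Pt 0]) = true := by decide +kernel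
theorem cytl1_e_0 : allZ (dent cytl1 cyth_P (nat_lit 13920)) (nat_lit 0) (nat_lit 55) = true := by decide +kernel
theorem le34_0 : allZ (leEnt t_P nu_P 9 B1 le34W) (nat_lit 0) (nat_lit 4) = true := by decide +kernel
theorem wi_f0 : (Nat.ble wic0.K 2 && Nat.ble (topK [wic3]) wic0.K && Nat.beq (wic0.Pt 0) (witl0.Pt 0) && Nat.beq (ltAll 13920 []) 0 && kChk wie_P wix_P wic0.K 3 B1 []) = true := by decide +kernel
theorem cttn1_0 : (Nat.ble cttl0.K 12 && Nat.beq (ltAll 13920 []) 0 && kChk cte_P ctx_P cttn1.Kn 3 B1 [] && H16.allL (ltAll 3) cttn1.pre && planOK ctth_P ctx_P 3 (cttl0.Pt 0) cttn1.plan [cttl0, cttl1, cttl2, cttl3]) = true := by decide +kernel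
theorem cftl1_e_0 : allZ (dent cftl1 cfth_P (nat_lit 13920)) (nat_lit 0) (nat_lit 41) = true := by decide +kernel
theorem cf_f3 : (Nat.ble cfc3.K 5 && Nat.ble (topK [cfc5]) cfc3.K && Nat.beq (cfc3.Pt 0) (cftl3.Pt 0) && Nat.beq (ltAll 13920 [cftl2.Pt 0, cftl1.Pt 0, cftl0.Pt 0]) 0 && kChk cfe_P cfx_P cfc3.K 1 B1 [cftl2.Pt 0, cftl1.Pt 0, cftl0.Pt 0]) = true := by decide +kernel
theorem cftn9_0 : (Nat.ble cftl3.K 13 && Nat.beq (ltAll 13920 [cftl2.Pt 0, cftl1.Pt 0, cftl0.Pt 0]) 0 && kChk cftr9k_P cftn8y52_P cftn9.Kn 1 B1 [cftl2.Pt 0, cftl1.Pt 0, cftl0.Pt 0] && H16.allL (ltAll 1) cftn9.pre && planOK cfth_P cfx_P 1 (cftl3.Pt 0) cftn9.plan [cftl3, cftl4, cftl5]) = true := by decide +kernel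
theorem co4_0 : allZ (comEnt Tm Tm 4 B1 co4U co4V) (nat_lit 0) (nat_lit 4) = true := by decide +kernel
theorem le58_0 : allZ (leEnt (pk (wdsP Tm wW) [0, 1, 10, 11]) cve_P 4 B1 le58W) (nat_lit 0) (nat_lit 4) = true := by decide +kernel
theorem cttn0_0 : (Nat.ble cttl3.K 12 && Nat.beq (ltAll 13920 [cttl2.Pt 0, cttl1.Pt 0, cttl0.Pt 0]) 0 && kChk cte_P ctx_P cttn0.Kn 3 B1 [cttl2.Pt 0, cttl1.Pt 0, cttl0.Pt 0] && H16.allL (ltAll 3) cttn0.pre && planOK ctth_P ctx_P 3 (cttl3.Pt 0) cttn0.plan [cttl3]) = true := by decide +kernel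
theorem wi_f3 : (Nat.ble wic3.K 2 && Nat.ble (topK []) wic3.K && Nat.beq (wic3.Pt 0) (witl3.Pt 0) && Nat.beq (ltAll 13920 [witl2.Pt 0, witl1.Pt 0, witl0.Pt 0]) 0 && kChk wie_P wix_P wic3.K 3 B1 [witl2.Pt 0, witl1.Pt 0, witl0.Pt 0]) = true := by decide +kernel
theorem cftn7_0 : (Nat.ble cftl0.K 13 && Nat.beq (ltAll 13920 []) 0 && kChk cfe_P cfx_P cftn7.Kn 1 B1 [] && H16.allL (ltAll 1) cftn7.pre && planOK cfth_P cfx_P 1 (cftl0.Pt 0) cftn7.plan [cftl0, cftl1, cftl2, cftl3, cftl4, cftl5]) = true := by decide +kernel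
theorem bitn0_0 : (Nat.ble bitl3.K 11 && Nat.beq (ltAll 13920 [bitl2.Pt 0, bitl1.Pt 0, bitl0.Pt 0]) 0 && kChk bie_P bix_P bitn0.Kn 3 B1 [bitl2.Pt 0, bitl1.Pt 0, bitl0.Pt 0] && H16.allL (ltAll 3) bitn0.pre && planOK bith_P bix_P 3 (bitl3.Pt 0) bitn0.plan [bitl3]) = true := by decide +kernel
theorem cftn5_0 : (Nat.ble cftl3.K 13 && Nat.beq (ltAll 13920 [cftl2.Pt 0, cftl1.Pt 0, cftl0.Pt 0]) 0 && kChk cftr5k_P cftn4y58_P cftn5.Kn 1 B1 [cftl2.Pt 0, cftl1.Pt 0, cftl0.Pt 0] && H16.allL (ltAll 1) cftn5.pre && planOK cfth_P cfx_P 1 (cftl3.Pt 0) cftn5.plan [cftl3, cftl4, cftl5]) = true := by decide +kernel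
theorem witn0_0 : (Nat.ble witl3.K 12 && Nat.beq (ltAll 13920 [witl2.Pt 0, witl1.Pt 0, witl0.Pt 0]) 0 && kChk wie_P wix_P witn0.Kn 3 B1 [witl2.Pt 0, witl1.Pt 0, witl0.Pt 0] && H16.allL (ltAll 3) witn0.pre && planOK with_P wix_P 3 (witl3.Pt 0) witn0.plan [witl3]) = true := by decide +kernel
theorem cvtn1_1_0 : allZ (cvtn1.ent Tm cvth_P cvx_P cvx_P cve_P (nat_lit 6) (nat_lit 3) B1 cvtl2 [cvtl3] (memO cvc2)) (nat_lit 0) (nat_lit 6) = true := by decide +kernel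
theorem cltn1_0 : (Nat.ble cltl3.K 11 && Nat.beq (ltAll 13920 [cltl2.Pt 0, cltl1.Pt 0, cltl0.Pt 0]) 0 && kChk cle_P clx_P cltn1.Kn 1 B1 [cltl2.Pt 0, cltl1.Pt 0, cltl0.Pt 0] && H16.allL (ltAll 1) cltn1.pre && planOK clth_P clx_P 1 (cltl3.Pt 0) cltn1.plan [cltl3, cltl4, cltl5]) = true := by decide +kernel
theorem cvtn0_0 : (Nat.ble cvtl3.K 12 && Nat.beq (ltAll 13920 [cvtl2.Pt 0, cvtl1.Pt 0, cvtl0.Pt 0]) 0 && kChk cve_P cvx_P cvtn0.Kn 3 B1 [cvtl2.Pt 0, cvtl1.Pt 0, cvtl0.Pt 0] && H16.allL (ltAll 3) cvtn0.pre && planOK cvth_P cvx_P 3 (cvtl3.Pt 0) cvtn0.plan [cvtl3]) = true := by decide +kernel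
theorem cftn8_0 : (Nat.ble cftl2.K 13 && Nat.beq (ltAll 13920 [cftl1.Pt 0, cftl0.Pt 0]) 0 && kChk cftr8k_P cftn7y229_P cftn8.Kn 1 B1 [cftl1.Pt 0, cftl0.Pt 0] && H16.allL (ltAll 1) cftn8.pre && planOK cfth_P cfx_P 1 (cftl2.Pt 0) cftn8.plan [cftl2, cftl3, cftl4, cftl5]) = true := by decide +kernel
theorem nm51 : 7 < 68 ∧ allZ (fun j => H16.force j fun j => cjL pf_P (wdsP Tm wW) 2 B1 7 [j] (nth [] [[nat_lit 0, nat_lit 0, nat_lit 1, nat_lit 1],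
  [nat_lit 0, nat_lit 0, nat_lit 1]] j)) 0 2 = true := by decide +kernel
theorem cltn7_0 : (Nat.ble cltl3.K 11 && Nat.beq (ltAll 13920 [cltl2.Pt 0, cltl1.Pt 0, cltl0.Pt 0]) 0 && kChk cltr7k_P cltn6y1946_P cltn7.Kn 1 B1 [cltl2.Pt 0, cltl1.Pt 0, cltl0.Pt 0] && H16.allL (ltAll 1) cltn7.pre && planOK clth_P clx_P 1 (cltl3.Pt 0) cltn7.plan [cltl3, cltl4, cltl5]) = true := by decide +kernel
theorem cftn3_0 : (Nat.ble cftl3.K 13 && Nat.beq (ltAll 13920 [cftl2.Pt 0, cftl1.Pt 0, cftl0.Pt 0]) 0 && kChk cfe_P cfx_P cftn3.Kn 1 B1 [cftl2.Pt 0, cftl1.Pt 0, cftl0.Pt 0] && H16.allL (ltAll 1) cftn3.pre && planOK cfth_P cfx_P 1 (cftl3.Pt 0) cftn3.plan [cftl3, cftl4, cftl5]) = true := by decide +kernel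
theorem cntn1_1_0 : allZ (cntn1.ent Tm cnth_P cnx_P cnx_P cne_P (nat_lit 5) (nat_lit 2) B1 cntl2 [cntl3, cntl4] (memO cnc2)) (nat_lit 0) (nat_lit 4) = true := by decide +kernel
theorem cl13_0 : allZ (clEnt wzpe_P (wdsP Tm wW) 67 68 B1 cl13L en12W) (nat_lit 0) (nat_lit 4) = true := by decide +kernel
theorem co35_0 : allZ (comEnt nu_P cnx_P 4 B1 co35U co35V) (nat_lit 0) (nat_lit 2) = true := by decide +kernel
theorem cftn8_1_0 : allZ (cftn8.ent Tm cfth_P cfx_P cftn7y229_P cftr8k_P (nat_lit 6) (nat_lit 1) B1 cftl2 [cftl3, cftl4, cftl5] (fun _ => nat_lit 1)) (nat_lit 0) (nat_lit 2) = true := by decide +kernel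
theorem cftn4_0 : (Nat.ble cftl2.K 13 && Nat.beq (ltAll 13920 [cftl1.Pt 0, cftl0.Pt 0]) 0 && kChk cfe_P cfx_P cftn4.Kn 1 B1 [cftl1.Pt 0, cftl0.Pt 0] && H16.allL (ltAll 1) cftn4.pre && planOK cfth_P cfx_P 1 (cftl2.Pt 0) cftn4.plan [cftl2, cftl3, cftl4, cftl5]) = true := by decide +kernel
theorem nm52 : 8 < 68 ∧ allZ (fun j => H16.force j fun j => cjL pf_P (wdsP Tm wW) 2 B1 8 [j] (nth [] [[nat_lit 1, nat_lit 1],
  [nat_lit 0]] j)) 0 2 = true := by decide +kernel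
theorem wzptl1_e_0 : allZ (dent wzptl1 wzpth_P (nat_lit 13920)) (nat_lit 0) (nat_lit 20) = true := by decide +kernel
theorem cm8 : 9 < 68 ∧ allZ (fun j => H16.force j (cmEnt wix_P (wdsP Tm wW) B1 9)) 0 3 = true := by decide +kernel
theorem cltn0_0 : (Nat.ble cltl5.K 11 && Nat.beq (ltAll 13920 [cltl4.Pt 0, cltl3.Pt 0, cltl2.Pt 0, cltl1.Pt 0, cltl0.Pt 0]) 0 && kChk cle_P clx_P cltn0.Kn 1 B1 [cltl4.Pt 0, cltl3.Pt 0, cltl2.Pt 0, cltl1.Pt 0, cltl0.Pt 0] && H16.allL (ltAll 1) cltn0.pre && planOK clth_P clx_P 1 (cltl5.Pt 0) cltn0.plan [cltl5]) = true := by decide +kernel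
theorem en9a_a : allZ2 (tupEnt bie_P en9T en9N (nat_lit 13920) (nat_lit 4) (nat_lit 3)) (nat_lit 2) (nat_lit 4) = true := by decide +kernel
theorem cm14 : 1 < 68 ∧ allZ (fun j => H16.force j (cmEnt wzpx_P (wdsP Tm wW) B1 1)) 0 3 = true := by decide +kernel
theorem bitl2_e_0 : allZ (dent bitl2 bith_P (nat_lit 13920)) (nat_lit 0) (nat_lit 15) = true := by decide +kernel
theorem en48c : 0 < 256 ∧ H16.allL (ltAll 8) en48W = true ∧ ∀ β ∈ B1, ∃ j < 3, en48T j 0 = β := by decide +kernel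
theorem en6a_a : allZ2 (tupEnt wie_P en6T en6N (nat_lit 13920) (nat_lit 4) (nat_lit 3)) (nat_lit 2) (nat_lit 4) = true := by decide +kernel
theorem nm3 : 1 < 68 ∧ allZ (fun j => H16.force j fun j => cjL Tm (wdsP Tm wW) 4 B1 1 [j] (nth [] [[nat_lit 3, nat_lit 0, nat_lit 1, nat_lit 2, nat_lit 0, nat_lit 2, nat_lit 1, nat_lit 0, nat_lit 3],
  [nat_lit 0, nat_lit 1, nat_lit 0, nat_lit 1, nat_lit 0, nat_lit 2, nat_lit 0, nat_lit 1, nat_lit 2, nat_lit 1, nat_lit 3, nat_lit 2, nat_lit 0],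
  [nat_lit 1, nat_lit 2, nat_lit 0, nat_lit 1, nat_lit 0, nat_lit 2, nat_lit 1],
  [nat_lit 0, nat_lit 2, nat_lit 3, nat_lit 0, nat_lit 3, nat_lit 0, nat_lit 2, nat_lit 3, nat_lit 2, nat_lit 1]] j)) 0 4 = true := by decide +kernel
theorem cftn5_1_0 : allZ (cftn5.ent Tm cfth_P cfx_P cftn4y58_P cftr5k_P (nat_lit 6) (nat_lit 1) B1 cftl3 [cftl4, cftl5] (fun _ => nat_lit 1)) (nat_lit 0) (nat_lit 2) = true := by decide +kernel
theorem nm2 : 5 < 6 ∧ allZ (fun j => H16.force j fun j => cjL Tm Tm 5 B1 5 [j] (nth [] [[nat_lit 2, nat_lit 4, nat_lit 3, nat_lit 4, nat_lit 2],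
  [nat_lit 2, nat_lit 0, nat_lit 3, nat_lit 2, nat_lit 3, nat_lit 0, nat_lit 2],
  [nat_lit 1, nat_lit 0, nat_lit 3, nat_lit 2, nat_lit 3, nat_lit 0, nat_lit 1],
  [nat_lit 4, nat_lit 1, nat_lit 0, nat_lit 2, nat_lit 0, nat_lit 1, nat_lit 3, nat_lit 4],
  [nat_lit 0, nat_lit 2, nat_lit 4, nat_lit 2, nat_lit 4, nat_lit 2, nat_lit 0, nat_lit 4, nat_lit 3]] j)) 0 5 = true := by decide +kernel
theorem en12a_a : allZ2 (tupEnt wzpe_P en12T en12N (nat_lit 13920) (nat_lit 4) (nat_lit 3)) (nat_lit 2) (nat_lit 4) = true := by decide +kernel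
theorem cltn7_1_0 : allZ (cltn7.ent Tm clth_P clx_P cltn6y1946_P cltr7k_P (nat_lit 5) (nat_lit 1) B1 cltl3 [cltl4, cltl5] (fun _ => nat_lit 1)) (nat_lit 0) (nat_lit 4) = true := by decide +kernel
theorem en39c : 0 < 64 ∧ H16.allL (ltAll 6) en39W = true ∧ ∀ β ∈ B1, ∃ j < 3, en39T j 0 = β := by decide +kernel
theorem en12b_0 : allZ (enEnt wzpe_P en12T en12W (nat_lit 3)) (nat_lit 0) (nat_lit 4) = true := by decide +kernel
theorem cytn0_1_0 : allZ (cytn0.ent Tm cyth_P cyx_P cyx_P cye_P (nat_lit 6) (nat_lit 3) B1 cytl2 [] (memO cyc2)) (nat_lit 0) (nat_lit 12) = true := by decide +kernel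
theorem en9c : 0 < 4 ∧ H16.allL (ltAll 2) en9W = true ∧ ∀ β ∈ B1, ∃ j < 3, en9T j 0 = β := by decide +kernel
theorem en27c : 0 < 2 ∧ H16.allL (ltAll 1) en27W = true ∧ ∀ β ∈ B1, ∃ j < 3, en27T j 0 = β := by decide +kernel
theorem t_lt : H16.allL (ltAll 6) t_W = true := by decide +kernel
theorem t_e : H16.allL (ltAll 10) te = true := by decide +kernel
theorem tl1_h : 0 < tl1.n ∧ 0 < tl1.K ∧ tl1.Pt 0 < 1792 ∧ tl1.Q (tl1.Pt 0) = 0 := by decide +kernel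
theorem pf_lt : H16.allL (ltAll 6) pf_W = true := by decide +kernel
theorem pf_e : H16.allL (ltAll 2) pfe = true := by decide +kernel
theorem pf_c : chainCard [pfl0] = 3 ^ 2 ∧ ¬ 3 ^ (2 + 1) ∣ 322560 := by decide +kernel
theorem with_lt : H16.allL (ltAll 6) with_W = true := by decide +kernel
theorem witl1_h : 0 < witl1.n ∧ 0 < witl1.K ∧ witl1.Pt 0 < 13920 ∧ witl1.Q (witl1.Pt 0) = 0 := by decide +kernel
theorem witl3_h : 0 < witl3.n ∧ 0 < witl3.K ∧ witl3.Pt 0 < 13920 ∧ witl3.Q (witl3.Pt 0) = 0 := by decide +kernel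
theorem wie_lt : H16.allL (ltAll 6) wie_W = true := by decide +kernel
theorem wic0_h : 0 < wic0.n ∧ 0 < wic0.K ∧ wic0.Pt 0 < 13920 ∧ wic0.Q (wic0.Pt 0) = 0 := by decide +kernel
theorem witr2k_lt : H16.allL (ltAll 6) witr2k_W = true := by decide +kernel
theorem bix_lt : H16.allL (ltAll 6) bix_W = true := by decide +kernel
theorem bitl0_h : 0 < bitl0.n ∧ 0 < bitl0.K ∧ bitl0.Pt 0 < 13920 ∧ bitl0.Q (bitl0.Pt 0) = 0 := by decide +kernel
theorem bitl2_h : 0 < bitl2.n ∧ 0 < bitl2.K ∧ bitl2.Pt 0 < 13920 ∧ bitl2.Q (bitl2.Pt 0) = 0 := by decide +kernel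
theorem bit_c : chainCard [bitl0, bitl1, bitl2, bitl3] = 322560 := by decide +kernel
theorem bic3_h : 0 < bic3.n ∧ 0 < bic3.K ∧ bic3.Pt 0 < 13920 ∧ bic3.Q (bic3.Pt 0) = 0 := by decide +kernel
theorem bitn1y5817_lt : H16.allL (ltAll 6) bitn1y5817_W = true := by decide +kernel
theorem bi_c : chainCard [bic0, bic3] = 4 ∧ topK [bic0, bic3] = 2 := by decide +kernel
theorem wzpth_lt : H16.allL (ltAll 6) wzpth_W = true := by decide +kernel
theorem wzptl1_h : 0 < wzptl1.n ∧ 0 < wzptl1.K ∧ wzptl1.Pt 0 < 13920 ∧ wzptl1.Q (wzptl1.Pt 0) = 0 := by decide +kernel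
theorem wzptl3_h : 0 < wzptl3.n ∧ 0 < wzptl3.K ∧ wzptl3.Pt 0 < 13920 ∧ wzptl3.Q (wzptl3.Pt 0) = 0 := by decide +kernel
theorem wzpe_lt : H16.allL (ltAll 6) wzpe_W = true := by decide +kernel
theorem wzpc0_h : 0 < wzpc0.n ∧ 0 < wzpc0.K ∧ wzpc0.Pt 0 < 13920 ∧ wzpc0.Q (wzpc0.Pt 0) = 0 := by decide +kernel
theorem covr_lt : H16.allL (ltAll 6) covr_W = true := by decide +kernel
theorem cfx_lt : H16.allL (ltAll 6) cfx_W = true := by decide +kernel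
theorem cftl0_h : 0 < cftl0.n ∧ 0 < cftl0.K ∧ cftl0.Pt 0 < 13920 ∧ cftl0.Q (cftl0.Pt 0) = 0 := by decide +kernel
theorem cftl2_h : 0 < cftl2.n ∧ 0 < cftl2.K ∧ cftl2.Pt 0 < 13920 ∧ cftl2.Q (cftl2.Pt 0) = 0 := by decide +kernel
theorem cftl4_h : 0 < cftl4.n ∧ 0 < cftl4.K ∧ cftl4.Pt 0 < 13920 ∧ cftl4.Q (cftl4.Pt 0) = 0 := by decide +kernel
theorem cft_c : chainCard [cftl0, cftl1, cftl2, cftl3, cftl4, cftl5] = 322560 := by decide +kernel
theorem cfc5_h : 0 < cfc5.n ∧ 0 < cfc5.K ∧ cfc5.Pt 0 < 13920 ∧ cfc5.Q (cfc5.Pt 0) = 0 := by decide +kernel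
theorem cftr2k_lt : H16.allL (ltAll 6) cftr2k_W = true := by decide +kernel
theorem cftn4y58_lt : H16.allL (ltAll 6) cftn4y58_W = true := by decide +kernel
theorem cftn5y1_lt : H16.allL (ltAll 6) cftn5y1_W = true := by decide +kernel
theorem cfc0_h : 0 < cfc0.n ∧ 0 < cfc0.K ∧ cfc0.Pt 0 < 13920 ∧ cfc0.Q (cfc0.Pt 0) = 0 := by decide +kernel
theorem cftr8k_lt : H16.allL (ltAll 6) cftr8k_W = true := by decide +kernel
theorem cftr9k_lt : H16.allL (ltAll 6) cftr9k_W = true := by decide +kernel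
theorem cftr10k_lt : H16.allL (ltAll 6) cftr10k_W = true := by decide +kernel
theorem ctx_lt : H16.allL (ltAll 6) ctx_W = true := by decide +kernel
theorem cttl0_h : 0 < cttl0.n ∧ 0 < cttl0.K ∧ cttl0.Pt 0 < 13920 ∧ cttl0.Q (cttl0.Pt 0) = 0 := by decide +kernel
theorem cttl2_h : 0 < cttl2.n ∧ 0 < cttl2.K ∧ cttl2.Pt 0 < 13920 ∧ cttl2.Q (cttl2.Pt 0) = 0 := by decide +kernel
theorem ctt_c : chainCard [cttl0, cttl1, cttl2, cttl3] = 322560 := by decide +kernel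
theorem ctc3_h : 0 < ctc3.n ∧ 0 < ctc3.K ∧ ctc3.Pt 0 < 13920 ∧ ctc3.Q (ctc3.Pt 0) = 0 := by decide +kernel
theorem cttr2k_lt : H16.allL (ltAll 6) cttr2k_W = true := by decide +kernel
theorem cttr3k_lt : H16.allL (ltAll 6) cttr3k_W = true := by decide +kernel
theorem cttr4k_lt : H16.allL (ltAll 6) cttr4k_W = true := by decide +kernel
theorem ckx_lt : H16.allL (ltAll 6) ckx_W = true := by decide +kernel
theorem cktl0_h : 0 < cktl0.n ∧ 0 < cktl0.K ∧ cktl0.Pt 0 < 13920 ∧ cktl0.Q (cktl0.Pt 0) = 0 := by decide +kernel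
theorem cktl2_h : 0 < cktl2.n ∧ 0 < cktl2.K ∧ cktl2.Pt 0 < 13920 ∧ cktl2.Q (cktl2.Pt 0) = 0 := by decide +kernel
theorem ckt_c : chainCard [cktl0, cktl1, cktl2, cktl3] = 322560 := by decide +kernel
theorem ckc3_h : 0 < ckc3.n ∧ 0 < ckc3.K ∧ ckc3.Pt 0 < 13920 ∧ ckc3.Q (ckc3.Pt 0) = 0 := by decide +kernel
theorem ck_c : chainCard [ckc0, ckc3] = 4 ∧ topK [ckc0, ckc3] = 2 := by decide +kernel
theorem clth_lt : H16.allL (ltAll 5) clth_W = true := by decide +kernel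
theorem cltl1_h : 0 < cltl1.n ∧ 0 < cltl1.K ∧ cltl1.Pt 0 < 13920 ∧ cltl1.Q (cltl1.Pt 0) = 0 := by decide +kernel
theorem cltl3_h : 0 < cltl3.n ∧ 0 < cltl3.K ∧ cltl3.Pt 0 < 13920 ∧ cltl3.Q (cltl3.Pt 0) = 0 := by decide +kernel
theorem cltl5_h : 0 < cltl5.n ∧ 0 < cltl5.K ∧ cltl5.Pt 0 < 13920 ∧ cltl5.Q (cltl5.Pt 0) = 0 := by decide +kernel
theorem cle_lt : H16.allL (ltAll 5) cle_W = true := by decide +kernel
theorem clc3_h : 0 < clc3.n ∧ 0 < clc3.K ∧ clc3.Pt 0 < 13920 ∧ clc3.Q (clc3.Pt 0) = 0 := by decide +kernel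
theorem clc1_h : 0 < clc1.n ∧ 0 < clc1.K ∧ clc1.Pt 0 < 13920 ∧ clc1.Q (clc1.Pt 0) = 0 := by decide +kernel
theorem cltn4y5062_lt : H16.allL (ltAll 5) cltn4y5062_W = true := by decide +kernel
theorem cltn5y12372_lt : H16.allL (ltAll 5) cltn5y12372_W = true := by decide +kernel
theorem cltn6y1946_lt : H16.allL (ltAll 5) cltn6y1946_W = true := by decide +kernel
theorem cltn7y461_lt : H16.allL (ltAll 5) cltn7y461_W = true := by decide +kernel
theorem cl_c : chainCard [clc0, clc1, clc2, clc3, clc5] = 256 ∧ topK [clc0, clc1, clc2, clc3, clc5] = 8 := by decide +kernel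
theorem cnx_lt : H16.allL (ltAll 5) cnx_W = true := by decide +kernel
theorem cntl0_h : 0 < cntl0.n ∧ 0 < cntl0.K ∧ cntl0.Pt 0 < 13920 ∧ cntl0.Q (cntl0.Pt 0) = 0 := by decide +kernel
theorem cntl2_h : 0 < cntl2.n ∧ 0 < cntl2.K ∧ cntl2.Pt 0 < 13920 ∧ cntl2.Q (cntl2.Pt 0) = 0 := by decide +kernel
theorem cntl4_h : 0 < cntl4.n ∧ 0 < cntl4.K ∧ cntl4.Pt 0 < 13920 ∧ cntl4.Q (cntl4.Pt 0) = 0 := by decide +kernel
theorem cne_lt : H16.allL (ltAll 5) cne_W = true := by decide +kernel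
theorem cnc2_h : 0 < cnc2.n ∧ 0 < cnc2.K ∧ cnc2.Pt 0 < 13920 ∧ cnc2.Q (cnc2.Pt 0) = 0 := by decide +kernel
theorem cntr2k_lt : H16.allL (ltAll 5) cntr2k_W = true := by decide +kernel
theorem cntn3y4379_lt : H16.allL (ltAll 5) cntn3y4379_W = true := by decide +kernel
theorem cn_c : chainCard [cnc0, cnc2, cnc4] = 64 ∧ topK [cnc0, cnc2, cnc4] = 5 := by decide +kernel
theorem cptl0_h : 0 < cptl0.n ∧ 0 < cptl0.K ∧ cptl0.Pt 0 < 13920 ∧ cptl0.Q (cptl0.Pt 0) = 0 := by decide +kernel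
theorem cptl2_h : 0 < cptl2.n ∧ 0 < cptl2.K ∧ cptl2.Pt 0 < 13920 ∧ cptl2.Q (cptl2.Pt 0) = 0 := by decide +kernel
theorem cpt_c : chainCard [cptl0, cptl1, cptl2, cptl3] = 322560 := by decide +kernel
theorem cpc3_h : 0 < cpc3.n ∧ 0 < cpc3.K ∧ cpc3.Pt 0 < 13920 ∧ cpc3.Q (cpc3.Pt 0) = 0 := by decide +kernel
theorem cpc0_h : 0 < cpc0.n ∧ 0 < cpc0.K ∧ cpc0.Pt 0 < 13920 ∧ cpc0.Q (cpc0.Pt 0) = 0 := by decide +kernel
theorem cptr3k_lt : H16.allL (ltAll 6) cptr3k_W = true := by decide +kernel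
theorem cl49a : H16.allL (fun l => ltAll (4 + 1) (l.2.1 ++ l.2.2)) cl49A = true := by decide +kernel
theorem cyth_lt : H16.allL (ltAll 6) cyth_W = true := by decide +kernel
theorem cytl1_h : 0 < cytl1.n ∧ 0 < cytl1.K ∧ cytl1.Pt 0 < 13920 ∧ cytl1.Q (cytl1.Pt 0) = 0 := by decide +kernel
theorem cyt_c : chainCard [cytl0, cytl1, cytl2] = 322560 := by decide +kernel
theorem cyc2_h : 0 < cyc2.n ∧ 0 < cyc2.K ∧ cyc2.Pt 0 < 13920 ∧ cyc2.Q (cyc2.Pt 0) = 0 := by decide +kernel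
theorem cytn1y8002_lt : H16.allL (ltAll 6) cytn1y8002_W = true := by decide +kernel
theorem cy_c : chainCard [cyc0, cyc2] = 36 ∧ topK [cyc0, cyc2] = 3 := by decide +kernel
theorem cvth_lt : H16.allL (ltAll 6) cvth_W = true := by decide +kernel
theorem cvtl1_h : 0 < cvtl1.n ∧ 0 < cvtl1.K ∧ cvtl1.Pt 0 < 13920 ∧ cvtl1.Q (cvtl1.Pt 0) = 0 := by decide +kernel
theorem cvtl3_h : 0 < cvtl3.n ∧ 0 < cvtl3.K ∧ cvtl3.Pt 0 < 13920 ∧ cvtl3.Q (cvtl3.Pt 0) = 0 := by decide +kernel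
theorem cve_lt : H16.allL (ltAll 6) cve_W = true := by decide +kernel
theorem cvc2_h : 0 < cvc2.n ∧ 0 < cvc2.K ∧ cvc2.Pt 0 < 13920 ∧ cvc2.Q (cvc2.Pt 0) = 0 := by decide +kernel
theorem cvtr2k_lt : H16.allL (ltAll 6) cvtr2k_W = true := by decide +kernel
theorem cv_c : chainCard [cvc0, cvc2, cvc3] = 36 ∧ topK [cvc0, cvc2, cvc3] = 4 := by decide +kernel
theorem wG_lt : H16.allL (ltAll 11) wG = true := by decide +kernel
theorem cltn5_1_0 : allZ (cltn5.ent Tm clth_P clx_P cltn4y5062_P cltr5k_P (nat_lit 5) (nat_lit 1) B1 cltl1 [cltl2, cltl3, cltl4, cltl5] (fun _ => nat_lit 1)) (nat_lit 0) (nat_lit 2) = true := by decide +kernel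
theorem clc0_e_0 : allZ (dent clc0 cle_P (nat_lit 13920)) (nat_lit 0) (nat_lit 7) = true := by decide +kernel
theorem cptn3_1_0 : allZ (cptn3.ent Tm cpth_P pf_P cptn2y8002_P cptr3k_P (nat_lit 6) (nat_lit 2) B1 cptl2 [cptl3] (fun _ => nat_lit 1)) (nat_lit 0) (nat_lit 6) = true := by decide +kernel
theorem cf_f1 : (Nat.ble cftl1.K 13 && Nat.blt (nat_lit 0) 13920 && fixLetters cfth_P cftl1.K (nat_lit 0) && Nat.beq (ltAll 1 [nat_lit 0]) 0 && Nat.beq (apW cfx_P [nat_lit 0] (nat_lit 0)) (cftl1.Pt 0)) = true := by decide +kernel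
theorem ck_f2 : (Nat.ble cktl2.K 12 && Nat.blt (nat_lit 292) 13920 && fixLetters ckth_P cktl2.K (nat_lit 292) && Nat.beq (ltAll 2 [nat_lit 1, nat_lit 1]) 0 && Nat.beq (apW ckx_P [nat_lit 1, nat_lit 1] (nat_lit 292)) (cktl2.Pt 0)) = true := by decide +kernel
theorem cp_f1 : (Nat.ble cptl1.K 12 && Nat.blt (nat_lit 582) 13920 && fixLetters cpth_P cptl1.K (nat_lit 582) && Nat.beq (ltAll 2 [nat_lit 0]) 0 && Nat.beq (apW pf_P [nat_lit 0] (nat_lit 582)) (cptl1.Pt 0)) = true := by decide +kernel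
theorem cft_f4 : (Nat.ble cftl4.K 13 && Nat.ble (topK [cftl5]) cftl4.K && fixLetters cfth_P (topK [cftl5]) (cftl4.Pt 0)) = true := by decide +kernel
theorem cft_f2 : (Nat.ble cftl2.K 13 && Nat.ble (topK [cftl3, cftl4, cftl5]) cftl2.K && fixLetters cfth_P (topK [cftl3, cftl4, cftl5]) (cftl2.Pt 0)) = true := by decide +kernel
theorem cft_f0 : (Nat.ble cftl0.K 13 && Nat.ble (topK [cftl1, cftl2, cftl3, cftl4, cftl5]) cftl0.K && fixLetters cfth_P (topK [cftl1, cftl2, cftl3, cftl4, cftl5]) (cftl0.Pt 0)) = true := by decide +kernel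
theorem wzp_f1 : (Nat.ble wzptl1.K 12 && Nat.blt (nat_lit 4450) 13920 && fixLetters wzpth_P wzptl1.K (nat_lit 4450) && Nat.beq (ltAll 3 [nat_lit 2]) 0 && Nat.beq (apW wzpx_P [nat_lit 2] (nat_lit 4450)) (wzptl1.Pt 0)) = true := by decide +kernel
theorem wi_f1 : (Nat.ble witl1.K 12 && Nat.blt (nat_lit 1139) 13920 && fixLetters with_P witl1.K (nat_lit 1139) && Nat.beq (ltAll 3 [nat_lit 2]) 0 && Nat.beq (apW wix_P [nat_lit 2] (nat_lit 1139)) (witl1.Pt 0)) = true := by decide +kernel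
theorem ct_f2 : (Nat.ble cttl2.K 12 && Nat.blt (nat_lit 0) 13920 && fixLetters ctth_P cttl2.K (nat_lit 0) && Nat.beq (ltAll 3 [nat_lit 0]) 0 && Nat.beq (apW ctx_P [nat_lit 0] (nat_lit 0)) (cttl2.Pt 0)) = true := by decide +kernel
theorem cn_f3 : (Nat.ble cntl3.K 11 && Nat.blt (nat_lit 624) 13920 && fixLetters cnth_P cntl3.K (nat_lit 624) && Nat.beq (ltAll 2 [nat_lit 1]) 0 && Nat.beq (apW cnx_P [nat_lit 1] (nat_lit 624)) (cntl3.Pt 0)) = true := by decide +kernel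
theorem cl28_0 : allZ (clEnt cte_P (wdsP Tm wW) 67 68 B1 cl28L en27W) (nat_lit 0) (nat_lit 2) = true := by decide +kernel
theorem cvtl2_e_0 : allZ (dent cvtl2 cvth_P (nat_lit 13920)) (nat_lit 0) (nat_lit 5) = true := by decide +kernel
theorem cpt_f2 : (Nat.ble cptl2.K 12 && Nat.ble (topK [cptl3]) cptl2.K && fixLetters cpth_P (topK [cptl3]) (cptl2.Pt 0)) = true := by decide +kernel
theorem cpt_f0 : (Nat.ble cptl0.K 12 && Nat.ble (topK [cptl1, cptl2, cptl3]) cptl0.K && fixLetters cpth_P (topK [cptl1, cptl2, cptl3]) (cptl0.Pt 0)) = true := by decide +kernel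
theorem cvt_f3 : (Nat.ble cvtl3.K 12 && Nat.ble (topK []) cvtl3.K && fixLetters cvth_P (topK []) (cvtl3.Pt 0)) = true := by decide +kernel
theorem cvt_f2 : (Nat.ble cvtl2.K 12 && Nat.ble (topK [cvtl3]) cvtl2.K && fixLetters cvth_P (topK [cvtl3]) (cvtl2.Pt 0)) = true := by decide +kernel
theorem cvt_f0 : (Nat.ble cvtl0.K 12 && Nat.ble (topK [cvtl1, cvtl2, cvtl3]) cvtl0.K && fixLetters cvth_P (topK [cvtl1, cvtl2, cvtl3]) (cvtl0.Pt 0)) = true := by decide +kernel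
theorem bi_f2 : (Nat.ble bitl2.K 11 && Nat.blt (nat_lit 262) 13920 && fixLetters bith_P bitl2.K (nat_lit 262) && Nat.beq (ltAll 3 [nat_lit 0]) 0 && Nat.beq (apW bix_P [nat_lit 0] (nat_lit 262)) (bitl2.Pt 0)) = true := by decide +kernel
theorem wzpt_f3 : (Nat.ble wzptl3.K 12 && Nat.ble (topK []) wzptl3.K && fixLetters wzpth_P (topK []) (wzptl3.Pt 0)) = true := by decide +kernel
theorem wzpt_f1 : (Nat.ble wzptl1.K 12 && Nat.ble (topK [wzptl2, wzptl3]) wzptl1.K && fixLetters wzpth_P (topK [wzptl2, wzptl3]) (wzptl1.Pt 0)) = true := by decide +kernel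
theorem cyt_f2 : (Nat.ble cytl2.K 12 && Nat.ble (topK []) cytl2.K && fixLetters cyth_P (topK []) (cytl2.Pt 0)) = true := by decide +kernel
theorem cyt_f0 : (Nat.ble cytl0.K 12 && Nat.ble (topK [cytl1, cytl2]) cytl0.K && fixLetters cyth_P (topK [cytl1, cytl2]) (cytl0.Pt 0)) = true := by decide +kernel
theorem wit_f3 : (Nat.ble witl3.K 12 && Nat.ble (topK []) witl3.K && fixLetters with_P (topK []) (witl3.Pt 0)) = true := by decide +kernel
theorem wit_f1 : (Nat.ble witl1.K 12 && Nat.ble (topK [witl2, witl3]) witl1.K && fixLetters with_P (topK [witl2, witl3]) (witl1.Pt 0)) = true := by decide +kernel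
theorem ctt_f3 : (Nat.ble cttl3.K 12 && Nat.ble (topK []) cttl3.K && fixLetters ctth_P (topK []) (cttl3.Pt 0)) = true := by decide +kernel
theorem ctt_f1 : (Nat.ble cttl1.K 12 && Nat.ble (topK [cttl2, cttl3]) cttl1.K && fixLetters ctth_P (topK [cttl2, cttl3]) (cttl1.Pt 0)) = true := by decide +kernel
theorem clt_f5 : (Nat.ble cltl5.K 11 && Nat.ble (topK []) cltl5.K && fixLetters clth_P (topK []) (cltl5.Pt 0)) = true := by decide +kernel
theorem clt_f3 : (Nat.ble cltl3.K 11 && Nat.ble (topK [cltl4, cltl5]) cltl3.K && fixLetters clth_P (topK [cltl4, cltl5]) (cltl3.Pt 0)) = true := by decide +kernel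
theorem clt_f1 : (Nat.ble cltl1.K 11 && Nat.ble (topK [cltl2, cltl3, cltl4, cltl5]) cltl1.K && fixLetters clth_P (topK [cltl2, cltl3, cltl4, cltl5]) (cltl1.Pt 0)) = true := by decide +kernel
theorem cnt_f4 : (Nat.ble cntl4.K 11 && Nat.ble (topK []) cntl4.K && fixLetters cnth_P (topK []) (cntl4.Pt 0)) = true := by decide +kernel
theorem cnt_f2 : (Nat.ble cntl2.K 11 && Nat.ble (topK [cntl3, cntl4]) cntl2.K && fixLetters cnth_P (topK [cntl3, cntl4]) (cntl2.Pt 0)) = true := by decide +kernel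
theorem cnt_f0 : (Nat.ble cntl0.K 11 && Nat.ble (topK [cntl1, cntl2, cntl3, cntl4]) cntl0.K && fixLetters cnth_P (topK [cntl1, cntl2, cntl3, cntl4]) (cntl0.Pt 0)) = true := by decide +kernel
theorem cpc2_e_0 : allZ (dent cpc2 cpe_P (nat_lit 13920)) (nat_lit 0) (nat_lit 5) = true := by decide +kernel
theorem ckt_f2 : (Nat.ble cktl2.K 12 && Nat.ble (topK [cktl3]) cktl2.K && fixLetters ckth_P (topK [cktl3]) (cktl2.Pt 0)) = true := by decide +kernel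
theorem ckt_f0 : (Nat.ble cktl0.K 12 && Nat.ble (topK [cktl1, cktl2, cktl3]) cktl0.K && fixLetters ckth_P (topK [cktl1, cktl2, cktl3]) (cktl0.Pt 0)) = true := by decide +kernel
theorem bit_f3 : (Nat.ble bitl3.K 11 && Nat.ble (topK []) bitl3.K && fixLetters bith_P (topK []) (bitl3.Pt 0)) = true := by decide +kernel
theorem bit_f2 : (Nat.ble bitl2.K 11 && Nat.ble (topK [bitl3]) bitl2.K && fixLetters bith_P (topK [bitl3]) (bitl2.Pt 0)) = true := by decide +kernel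
theorem bit_f0 : (Nat.ble bitl0.K 11 && Nat.ble (topK [bitl1, bitl2, bitl3]) bitl0.K && fixLetters bith_P (topK [bitl1, bitl2, bitl3]) (bitl0.Pt 0)) = true := by decide +kernel
theorem cntn4_1_0 : allZ (cntn4.ent Tm cnth_P cnx_P cntn3y4379_P cntr4k_P (nat_lit 5) (nat_lit 2) B1 cntl2 [cntl3, cntl4] (fun _ => nat_lit 1)) (nat_lit 0) (nat_lit 4) = true := by decide +kernel
theorem cftn6_1_0 : allZ (cftn6.ent Tm cfth_P cfx_P cftn5y1_P cftr6k_P (nat_lit 6) (nat_lit 1) B1 cftl4 [cftl5] (fun _ => nat_lit 1)) (nat_lit 0) (nat_lit 2) = true := by decide +kernel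
theorem en27a_a : allZ2 (tupEnt cte_P en27T en27N (nat_lit 13920) (nat_lit 2) (nat_lit 3)) (nat_lit 1) (nat_lit 2) = true := by decide +kernel
theorem t_f1 : (Nat.ble tl1.K 25 && Nat.ble (topK []) tl1.K && fixLetters (wdsP tP te) (topK []) (tl1.Pt 0)) = true := by decide +kernel
theorem cntl4_e_0 : allZ (dent cntl4 cnth_P (nat_lit 13920)) (nat_lit 0) (nat_lit 3) = true := by decide +kernel
theorem cltl3_e_0 : allZ (dent cltl3 clth_P (nat_lit 13920)) (nat_lit 0) (nat_lit 3) = true := by decide +kernel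
theorem cftn10_1_0 : allZ (cftn10.ent Tm cfth_P cfx_P cftn8y58_P cftr10k_P (nat_lit 6) (nat_lit 1) B1 cftl3 [cftl4, cftl5] (fun _ => nat_lit 1)) (nat_lit 0) (nat_lit 2) = true := by decide +kernel
theorem cntl2_e_0 : allZ (dent cntl2 cnth_P (nat_lit 13920)) (nat_lit 0) (nat_lit 3) = true := by decide +kernel
theorem cptn1_1_0 : allZ (cptn1.ent Tm cpth_P pf_P pf_P cpe_P (nat_lit 6) (nat_lit 2) B1 cptl2 [cptl3] (memO cpc2)) (nat_lit 0) (nat_lit 6) = true := by decide +kernel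
theorem cttn3_1_0 : allZ (cttn3.ent Tm ctth_P ctx_P cttn1y2583_P cttr3k_P (nat_lit 6) (nat_lit 3) B1 cttl3 [] (fun _ => nat_lit 1)) (nat_lit 0) (nat_lit 2) = true := by decide +kernel
theorem cvtn2_1_0 : allZ (cvtn2.ent Tm cvth_P cvx_P cvtn1y4826_P cvtr2k_P (nat_lit 6) (nat_lit 3) B1 cvtl3 [] (fun _ => nat_lit 1)) (nat_lit 0) (nat_lit 2) = true := by decide +kernel
theorem bitn2_1_0 : allZ (bitn2.ent Tm bith_P bix_P bitn1y5817_P bitr2k_P (nat_lit 6) (nat_lit 3) B1 bitl3 [] (fun _ => nat_lit 1)) (nat_lit 0) (nat_lit 2) = true := by decide +kernel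
theorem cvc2_e_0 : allZ (dent cvc2 cve_P (nat_lit 13920)) (nat_lit 0) (nat_lit 2) = true := by decide +kernel
theorem cltl4_e_0 : allZ (dent cltl4 clth_P (nat_lit 13920)) (nat_lit 0) (nat_lit 2) = true := by decide +kernel
theorem ckc0_e_0 : allZ (dent ckc0 cke_P (nat_lit 13920)) (nat_lit 0) (nat_lit 1) = true := by decide +kernel
theorem cftl5_e_0 : allZ (dent cftl5 cfth_P (nat_lit 13920)) (nat_lit 0) (nat_lit 1) = true := by decide +kernel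
theorem cltl1_e_0 : allZ (dent cltl1 clth_P (nat_lit 13920)) (nat_lit 0) (nat_lit 1) = true := by decide +kernel
theorem cftl4_e_0 : allZ (dent cftl4 cfth_P (nat_lit 13920)) (nat_lit 0) (nat_lit 1) = true := by decide +kernel
theorem clc2_e_0 : allZ (dent clc2 cle_P (nat_lit 13920)) (nat_lit 0) (nat_lit 1) = true := by decide +kernel
theorem cltl5_e_0 : allZ (dent cltl5 clth_P (nat_lit 13920)) (nat_lit 0) (nat_lit 1) = true := by decide +kernel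
theorem cftl3_e_0 : allZ (dent cftl3 cfth_P (nat_lit 13920)) (nat_lit 0) (nat_lit 1) = true := by decide +kernel
theorem cnc2_e_0 : allZ (dent cnc2 cne_P (nat_lit 13920)) (nat_lit 0) (nat_lit 1) = true := by decide +kernel
theorem witl3_e_0 : allZ (dent witl3 with_P (nat_lit 13920)) (nat_lit 0) (nat_lit 1) = true := by decide +kernel
theorem bitl3_e_0 : allZ (dent bitl3 bith_P (nat_lit 13920)) (nat_lit 0) (nat_lit 1) = true := by decide +kernel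
theorem wzpc3_e_0 : allZ (dent wzpc3 wzpe_P (nat_lit 13920)) (nat_lit 0) (nat_lit 1) = true := by decide +kernel
theorem ctc3_e_0 : allZ (dent ctc3 cte_P (nat_lit 13920)) (nat_lit 0) (nat_lit 1) = true := by decide +kernel
theorem ckc3_e_0 : allZ (dent ckc3 cke_P (nat_lit 13920)) (nat_lit 0) (nat_lit 1) = true := by decide +kernel
theorem cpc3_e_0 : allZ (dent cpc3 cpe_P (nat_lit 13920)) (nat_lit 0) (nat_lit 1) = true := by decide +kernel
theorem cvc3_e_0 : allZ (dent cvc3 cve_P (nat_lit 13920)) (nat_lit 0) (nat_lit 1) = true := by decide +kernel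
theorem witn0_1_0 : allZ (witn0.ent Tm with_P wix_P wix_P wie_P (nat_lit 6) (nat_lit 3) B1 witl3 [] (memO wic3)) (nat_lit 0) (nat_lit 2) = true := by decide +kernel
theorem cftn0_1_0 : allZ (cftn0.ent Tm cfth_P cfx_P cfx_P cfe_P (nat_lit 6) (nat_lit 1) B1 cftl5 [] (memO cfc5)) (nat_lit 0) (nat_lit 2) = true := by decide +kernel
theorem cttn0_1_0 : allZ (cttn0.ent Tm ctth_P ctx_P ctx_P cte_P (nat_lit 6) (nat_lit 3) B1 cttl3 [] (memO ctc3)) (nat_lit 0) (nat_lit 2) = true := by decide +kernel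
theorem cltn0_1_0 : allZ (cltn0.ent Tm clth_P clx_P clx_P cle_P (nat_lit 5) (nat_lit 1) B1 cltl5 [] (memO clc5)) (nat_lit 0) (nat_lit 2) = true := by decide +kernel
theorem cptn0_1_0 : allZ (cptn0.ent Tm cpth_P pf_P pf_P cpe_P (nat_lit 6) (nat_lit 2) B1 cptl3 [] (memO cpc3)) (nat_lit 0) (nat_lit 2) = true := by decide +kernel
theorem pfl0_e_0 : allZ (dent pfl0 (wdsP pfP pfe) (nat_lit 27)) (nat_lit 0) (nat_lit 8) = true := by decide +kernel
theorem pf_p : allZ2 (pcEnt pfP (nat_lit 3) pfB pfC) 2 2 = true := by decide +kernel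

end H15.NS.ON
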