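import Cfsg.Agent.H15.NS.ON.D0

/-! Generated by tools/h15/ns/gen.py (kit tools/h0/tr). -/

set_option maxRecDepth 100000
set_option maxHeartbeats 0

namespace H15.NS.ON
open H16 H0.TR
open scoped commutatorElement

theorem cle_q_3_0 : allZ (matEnt cle_P cle_Q (nat_lit 3)) (nat_lit 0) (nat_lit 6976) = true := by decide +kernel
theorem cle_q_6_1 : allZ (matEnt cle_P cle_Q (nat_lit 6)) (nat_lit 6848) (nat_lit 6848) = true := by decide +kernel
theorem cle_q_3_1 : allZ (matEnt cle_P cle_Q (nat_lit 3)) (nat_lit 6976) (nat_lit 6944) = true := by decide +kernel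
theorem cle_q_7_0 : allZ (matEnt cle_P cle_Q (nat_lit 7)) (nat_lit 0) (nat_lit 6784) = true := by decide +kernel
theorem cle_q_2_0 : allZ (matEnt cle_P cle_Q (nat_lit 2)) (nat_lit 0) (nat_lit 6976) = true := by decide +kernel
theorem cle_q_4_0 : allZ (matEnt cle_P cle_Q (nat_lit 4)) (nat_lit 0) (nat_lit 6336) = true := by decide +kernel
theorem cpe_q_2_0 : allZ (matEnt cpe_P cpe_Q (nat_lit 2)) (nat_lit 0) (nat_lit 6400) = true := by decide +kernel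
theorem cle_q_0_0 : allZ (matEnt cle_P cle_Q (nat_lit 0)) (nat_lit 0) (nat_lit 7040) = true := by decide +kernel
theorem cle_q_0_1 : allZ (matEnt cle_P cle_Q (nat_lit 0)) (nat_lit 7040) (nat_lit 6880) = true := by decide +kernel
theorem cl31_2 : allZ (clEnt cne_P (wdsP Tm wW) 67 68 B1 cl31L en30W) (nat_lit 42) (nat_lit 21) = true := by decide +kernel
theorem cpe_q_0_1 : allZ (matEnt cpe_P cpe_Q (nat_lit 0)) (nat_lit 7744) (nat_lit 6176) = true := by decide +kernel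
theorem cle_q_5_1 : allZ (matEnt cle_P cle_Q (nat_lit 5)) (nat_lit 8320) (nat_lit 5600) = true := by decide +kernel
theorem lnk_0 : allZ (lnkEnt (wdsP (wdsP P mW) wW) (wdsP P wG) H16.TON.B) (nat_lit 0) (nat_lit 64) = true := by decide +kernel
theorem t_r_6_0 : allZ (resEnt t_P tP tE tI (nat_lit 13920) (nat_lit 1792) (nat_lit 6)) (nat_lit 0) (nat_lit 1792) = true := by decide +kernel
theorem t_r_2_0 : allZ (resEnt t_P tP tE tI (nat_lit 13920) (nat_lit 1792) (nat_lit 2)) (nat_lit 0) (nat_lit 1792) = true := by decide +kernel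
theorem t_r_3_0 : allZ (resEnt t_P tP tE tI (nat_lit 13920) (nat_lit 1792) (nat_lit 3)) (nat_lit 0) (nat_lit 1792) = true := by decide +kernel
theorem t_r_4_0 : allZ (resEnt t_P tP tE tI (nat_lit 13920) (nat_lit 1792) (nat_lit 4)) (nat_lit 0) (nat_lit 1792) = true := by decide +kernel
theorem le23_0 : allZ (leEnt (pk (catP (wdsP P wG) 67 (wdsP P uW)) [0, 82, 83]) P 3 H16.TON.B le23W) (nat_lit 0) (nat_lit 10) = true := by decide +kernel
theorem t_r_1_0 : allZ (resEnt t_P tP tE tI (nat_lit 13920) (nat_lit 1792) (nat_lit 1)) (nat_lit 0) (nat_lit 1792) = true := by decide +kernel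
theorem le41_0 : allZ (leEnt (pk (catP (wdsP P wG) 67 (wdsP P uW)) [93, 94]) (wdsP (wdsP P mW) t_W) 2 H16.TON.B le41W) (nat_lit 0) (nat_lit 9) = true := by decide +kernel
theorem t_r_9_0 : allZ (resEnt t_P tP tE tI (nat_lit 13920) (nat_lit 1792) (nat_lit 9)) (nat_lit 0) (nat_lit 1792) = true := by decide +kernel
theorem ns45_a : allZ2 (nrmEnt (wdsP (wdsP P mW) t_W) (pk (catP (wdsP P wG) 67 (wdsP P uW)) [93, 94]) (nat_lit 3) H16.TON.B ns45W) (nat_lit 2) (nat_lit 3) = true := by decide +kernel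
theorem en30b_0 : allZ (enEnt cne_P en30T en30W (nat_lit 3)) (nat_lit 0) (nat_lit 64) = true := by decide +kernel
theorem en39a_a : allZ2 (tupEnt t_P en39T en39N (nat_lit 13920) (nat_lit 64) (nat_lit 3)) (nat_lit 6) (nat_lit 64) = true := by decide +kernel
theorem bitn1_1_0 : allZ (bitn1.ent Tm bith_P bix_P bix_P bie_P (nat_lit 6) (nat_lit 3) B1 bitl0 [bitl1, bitl2, bitl3] (memO bic0)) (nat_lit 0) (nat_lit 480) = true := by decide +kernel
theorem en39b_0 : allZ (enEnt t_P en39T en39W (nat_lit 3)) (nat_lit 0) (nat_lit 64) = true := by decide +kernel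
theorem witn1_1_0 : allZ (witn1.ent Tm with_P wix_P wix_P wie_P (nat_lit 6) (nat_lit 3) B1 witl0 [witl1, witl2, witl3] (memO wic0)) (nat_lit 0) (nat_lit 480) = true := by decide +kernel
theorem cvtn3_1_0 : allZ (cvtn3.ent Tm cvth_P cvx_P cvx_P cve_P (nat_lit 6) (nat_lit 3) B1 cvtl0 [cvtl1, cvtl2, cvtl3] (memO cvc0)) (nat_lit 0) (nat_lit 480) = true := by decide +kernel
theorem cftn7_1_0 : allZ (cftn7.ent Tm cfth_P cfx_P cfx_P cfe_P (nat_lit 6) (nat_lit 1) B1 cftl0 [cftl1, cftl2, cftl3, cftl4, cftl5] (memO cfc0)) (nat_lit 0) (nat_lit 480) = true := by decide +kernel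
theorem wzptn1_1_0 : allZ (wzptn1.ent Tm wzpth_P wzpx_P wzpx_P wzpe_P (nat_lit 6) (nat_lit 3) B1 wzptl0 [wzptl1, wzptl2, wzptl3] (memO wzpc0)) (nat_lit 0) (nat_lit 480) = true := by decide +kernel
theorem le36_0 : allZ (leEnt (pk (catP (wdsP P wG) 67 (wdsP P uW)) [90, 91, 92]) (pk (catP (wdsP P wG) 67 (wdsP P uW)) [0, 82, 83]) 3 H16.TON.B le36W) (nat_lit 0) (nat_lit 3) = true := by decide +kernel
theorem cntn3_1_0 : allZ (cntn3.ent Tm cnth_P cnx_P cnx_P cne_P (nat_lit 5) (nat_lit 2) B1 cntl0 [cntl1, cntl2, cntl3, cntl4] (memO cnc0)) (nat_lit 0) (nat_lit 240) = true := by decide +kernel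
theorem cjk_0 : allZ (cjEnt cj_P (wdsP (wdsP P mW) covr_W) (pk (catP (wdsP P wG) 67 (wdsP P uW)) [0, 0, 66, 66]) 4 H16.TON.B [nat_lit 0, nat_lit 0, nat_lit 0, nat_lit 2, nat_lit 2]) (nat_lit 0) (nat_lit 5) = true := by decide +kernel
theorem rG1k : H16.allL (litChk (catP (wdsP P wG) 67 (wdsP P uW)) (67 + 29) H16.TON.B) [(true, [nat_lit 0, nat_lit 77], [nat_lit 77, nat_lit 1]), (true, [nat_lit 1, nat_lit 77], [nat_lit 77, nat_lit 18]), (true, [nat_lit 0, nat_lit 78], [nat_lit 78, nat_lit 2]), (true, [nat_lit 1, nat_lit 78], [nat_lit 78, nat_lit 18]), (true, [nat_lit 1, nat_lit 79], [nat_lit 79, nat_lit 1]), (true, [nat_lit 19, nat_lit 79], [nat_lit 79, nat_lit 20]), (true, [nat_lit 1, nat_lit 80], [nat_lit 80, nat_lit 1]), (true, [nat_lit 2, nat_lit 80], [nat_lit 80, nat_lit 21]), (true, [nat_lit 1, nat_lit 81], [nat_lit 81, nat_lit 20]), (true, [nat_lit 2, nat_lit 81], [nat_lit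 81, nat_lit 21]), (true, [nat_lit 1, nat_lit 86], [nat_lit 86, nat_lit 0]), (true, [nat_lit 22, nat_lit 86], [nat_lit 86, nat_lit 82]), (true, [nat_lit 1, nat_lit 87], [nat_lit 87, nat_lit 0]), (true, [nat_lit 22, nat_lit 87], [nat_lit 87, nat_lit 83]), (true, [nat_lit 1, nat_lit 88], [nat_lit 88, nat_lit 82]), (true, [nat_lit 22, nat_lit 88], [nat_lit 88, nat_lit 83])] = true := by decide +kernel
theorem cltn4_1_0 : allZ (cltn4.ent Tm clth_P clx_P clx_P cle_P (nat_lit 5) (nat_lit 1) B1 cltl0 [cltl1, cltl2, cltl3, cltl4, cltl5] (memO clc0)) (nat_lit 0) (nat_lit 240) = true := by decide +kernel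
theorem cktl0_e_0 : allZ (dent cktl0 ckth_P (nat_lit 13920)) (nat_lit 0) (nat_lit 479) = true := by decide +kernel
theorem cttl0_e_0 : allZ (dent cttl0 ctth_P (nat_lit 13920)) (nat_lit 0) (nat_lit 479) = true := by decide +kernel
theorem witl0_e_0 : allZ (dent witl0 with_P (nat_lit 13920)) (nat_lit 0) (nat_lit 479) = true := by decide +kernel
theorem bitl0_e_0 : allZ (dent bitl0 bith_P (nat_lit 13920)) (nat_lit 0) (nat_lit 479) = true := by decide +kernel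
theorem cytl0_e_0 : allZ (dent cytl0 cyth_P (nat_lit 13920)) (nat_lit 0) (nat_lit 479) = true := by decide +kernel
theorem cov_c0 : (Nat.ble 10 10 && Nat.beq (ltAll 10 []) 0 && Nat.beq (covT0.chk Tm tP covr_P tE 6 10 2 2 5 tB 10 [] 0) 0) = true := by decide +kernel
theorem cm59 : 2 < 29 ∧ allZ (fun j => H16.force j (cmEnt (wdsP (wdsP P mW) pf_W) (wdsP P uW) H16.TON.B 2)) 0 2 = true := by decide +kernel
theorem lnk_1 : allZ (lnkEnt (wdsP (wdsP P mW) wW) (wdsP P wG) H16.TON.B) (nat_lit 64) (nat_lit 3) = true := by decide +kernel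
theorem rG2k : H16.allL (litChk (catP (wdsP P wG) 67 (wdsP P uW)) (67 + 29) H16.TON.B) [(true, [nat_lit 0, nat_lit 84], [nat_lit 84, nat_lit 82]), (true, [nat_lit 0, nat_lit 85], [nat_lit 85, nat_lit 83]), (true, [nat_lit 26, nat_lit 89], [nat_lit 89, nat_lit 26]), (true, [nat_lit 66, nat_lit 90], [nat_lit 90, nat_lit 66]), (true, [nat_lit 66, nat_lit 91], [nat_lit 91, nat_lit 66]), (true, [nat_lit 90, nat_lit 91, nat_lit 66, nat_lit 92, nat_lit 66], [nat_lit 91, nat_lit 90, nat_lit 92]), (true, [nat_lit 0, nat_lit 70], [nat_lit 70, nat_lit 2]), (true, [nat_lit 2, nat_lit 70], [nat_lit 70, nat_lit 2, nat_lit 0])] = true := by decide +kernel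
theorem le54_0 : allZ (leEnt (pk (wdsP Tm wW) [10, 11, 9, 6, 63, 63, 0, 1]) Tm 5 B1 le54W) (nat_lit 0) (nat_lit 4) = true := by decide +kernel
theorem cntl0_e_0 : allZ (dent cntl0 cnth_P (nat_lit 13920)) (nat_lit 0) (nat_lit 239) = true := by decide +kernel
theorem elk : H16.allL (litChk t_P 10 B1) [(true, [nat_lit 0, nat_lit 0], []), (true, [nat_lit 1, nat_lit 1], []), (true, [nat_lit 2, nat_lit 2], [])] = true := by decide +kernel
theorem cntn3_0 : (Nat.ble cntl0.K 11 && Nat.beq (ltAll 13920 []) 0 && kChk cne_P cnx_P cntn3.Kn 2 B1 [] && H16.allL (ltAll 2) cntn3.pre && planOK cnth_P cnx_P 2 (cntl0.Pt 0) cntn3.plan [cntl0, cntl1, cntl2, cntl3, cntl4]) = true := by decide +kernel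
theorem cv_f0 : (Nat.ble cvc0.K 4 && Nat.ble (topK [cvc2, cvc3]) cvc0.K && Nat.beq (cvc0.Pt 0) (cvtl0.Pt 0) && Nat.beq (ltAll 13920 []) 0 && kChk cve_P cvx_P cvc0.K 3 B1 []) = true := by decide +kernel
theorem cl_f5 : (Nat.ble clc5.K 8 && Nat.ble (topK []) clc5.K && Nat.beq (clc5.Pt 0) (cltl5.Pt 0) && Nat.beq (ltAll 13920 [cltl4.Pt 0, cltl3.Pt 0, cltl2.Pt 0, cltl1.Pt 0, cltl0.Pt 0]) 0 && kChk cle_P clx_P clc5.K 1 B1 [cltl4.Pt 0, cltl3.Pt 0, cltl2.Pt 0, cltl1.Pt 0, cltl0.Pt 0]) = true := by decide +kernel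
theorem cs43_a : allZ2 (cmEnt t_P t_P B1) (nat_lit 3) (nat_lit 3) = true := by decide +kernel
theorem co44_0 : allZ (comEnt t_P t_P 9 B1 co44U co44V) (nat_lit 0) (nat_lit 3) = true := by decide +kernel
theorem cn_f0 : (Nat.ble cnc0.K 5 && Nat.ble (topK [cnc2, cnc4]) cnc0.K && Nat.beq (cnc0.Pt 0) (cntl0.Pt 0) && Nat.beq (ltAll 13920 []) 0 && kChk cne_P cnx_P cnc0.K 2 B1 []) = true := by decide +kernel
theorem cn_f2 : (Nat.ble cnc2.K 5 && Nat.ble (topK [cnc4]) cnc2.K && Nat.beq (cnc2.Pt 0) (cntl2.Pt 0) && Nat.beq (ltAll 13920 [cntl1.Pt 0, cntl0.Pt 0]) 0 && kChk cne_P cnx_P cnc2.K 2 B1 [cntl1.Pt 0, cntl0.Pt 0]) = true := by decide +kernel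
theorem bitn1_0 : (Nat.ble bitl0.K 11 && Nat.beq (ltAll 13920 []) 0 && kChk bie_P bix_P bitn1.Kn 3 B1 [] && H16.allL (ltAll 3) bitn1.pre && planOK bith_P bix_P 3 (bitl0.Pt 0) bitn1.plan [bitl0, bitl1, bitl2, bitl3]) = true := by decide +kernel
theorem cktl1_e_0 : allZ (dent cktl1 ckth_P (nat_lit 13920)) (nat_lit 0) (nat_lit 83) = true := by decide +kernel
theorem cytn0_0 : (Nat.ble cytl2.K 12 && Nat.beq (ltAll 13920 [cytl1.Pt 0, cytl0.Pt 0]) 0 && kChk cye_P cyx_P cytn0.Kn 3 B1 [cytl1.Pt 0, cytl0.Pt 0] && H16.allL (ltAll 3) cytn0.pre && planOK cyth_P cyx_P 3 (cytl2.Pt 0) cytn0.plan [cytl2]) = true := by decide +kernel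
theorem cytn2_0 : (Nat.ble cytl2.K 12 && Nat.beq (ltAll 13920 [cytl1.Pt 0, cytl0.Pt 0]) 0 && kChk cytr2k_P cytn1y8002_P cytn2.Kn 3 B1 [cytl1.Pt 0, cytl0.Pt 0] && H16.allL (ltAll 3) cytn2.pre && planOK cyth_P cyx_P 3 (cytl2.Pt 0) cytn2.plan [cytl2]) = true := by decide +kernel
theorem witn2_0 : (Nat.ble witl3.K 12 && Nat.beq (ltAll 13920 [witl2.Pt 0, witl1.Pt 0, witl0.Pt 0]) 0 && kChk witr2k_P witn1y2385_P witn2.Kn 3 B1 [witl2.Pt 0, witl1.Pt 0, witl0.Pt 0] && H16.allL (ltAll 3) witn2.pre && planOK with_P wix_P 3 (witl3.Pt 0) witn2.plan [witl3]) = true := by decide +kernel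
theorem cp_f0 : (Nat.ble cpc0.K 4 && Nat.ble (topK [cpc2, cpc3]) cpc0.K && Nat.beq (cpc0.Pt 0) (cptl0.Pt 0) && Nat.beq (ltAll 13920 []) 0 && kChk cpe_P pf_P cpc0.K 2 B1 []) = true := by decide +kernel
theorem le53_0 : allZ (leEnt (pk (wdsP Tm wW) [10, 11, 6]) cye_P 3 B1 le53W) (nat_lit 0) (nat_lit 3) = true := by decide +kernel
theorem witn1_0 : (Nat.ble witl0.K 12 && Nat.beq (ltAll 13920 []) 0 && kChk wie_P wix_P witn1.Kn 3 B1 [] && H16.allL (ltAll 3) witn1.pre && planOK with_P wix_P 3 (witl0.Pt 0) witn1.plan [witl0, witl1, witl2, witl3]) = true := by decide +kernel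
theorem cttn3_0 : (Nat.ble cttl3.K 12 && Nat.beq (ltAll 13920 [cttl2.Pt 0, cttl1.Pt 0, cttl0.Pt 0]) 0 && kChk cttr3k_P cttn1y2583_P cttn3.Kn 3 B1 [cttl2.Pt 0, cttl1.Pt 0, cttl0.Pt 0] && H16.allL (ltAll 3) cttn3.pre && planOK ctth_P ctx_P 3 (cttl3.Pt 0) cttn3.plan [cttl3]) = true := by decide +kernel
theorem cttn2_0 : (Nat.ble cttl3.K 12 && Nat.beq (ltAll 13920 [cttl2.Pt 0, cttl1.Pt 0, cttl0.Pt 0]) 0 && kChk cttr2k_P cttn1y229_P cttn2.Kn 3 B1 [cttl2.Pt 0, cttl1.Pt 0, cttl0.Pt 0] && H16.allL (ltAll 3) cttn2.pre && planOK ctth_P ctx_P 3 (cttl3.Pt 0) cttn2.plan [cttl3]) = true := by decide +kernel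
theorem rL2k : H16.allL (litChk (wdsP Tm wW) 68 B1) [(true, [nat_lit 6, nat_lit 1], [nat_lit 1, nat_lit 0, nat_lit 6]), (true, [nat_lit 7, nat_lit 8, nat_lit 9], [nat_lit 8, nat_lit 7]), (true, [nat_lit 9, nat_lit 63], [nat_lit 63, nat_lit 9]), (true, [nat_lit 0, nat_lit 65], [nat_lit 65, nat_lit 0]), (true, [nat_lit 1, nat_lit 65], [nat_lit 65, nat_lit 2]), (true, [nat_lit 1, nat_lit 64], [nat_lit 64, nat_lit 2]), (true, [nat_lit 2, nat_lit 1, nat_lit 2], [nat_lit 0, nat_lit 1])] = true := by decide +kernel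
theorem cttl1_e_0 : allZ (dent cttl1 ctth_P (nat_lit 13920)) (nat_lit 0) (nat_lit 55) = true := by decide +kernel
theorem bitn2_0 : (Nat.ble bitl3.K 11 && Nat.beq (ltAll 13920 [bitl2.Pt 0, bitl1.Pt 0, bitl0.Pt 0]) 0 && kChk bitr2k_P bitn1y5817_P bitn2.Kn 3 B1 [bitl2.Pt 0, bitl1.Pt 0, bitl0.Pt 0] && H16.allL (ltAll 3) bitn2.pre && planOK bith_P bix_P 3 (bitl3.Pt 0) bitn2.plan [bitl3]) = true := by decide +kernel
theorem cvtn1_0 : (Nat.ble cvtl2.K 12 && Nat.beq (ltAll 13920 [cvtl1.Pt 0, cvtl0.Pt 0]) 0 && kChk cve_P cvx_P cvtn1.Kn 3 B1 [cvtl1.Pt 0, cvtl0.Pt 0] && H16.allL (ltAll 3) cvtn1.pre && planOK cvth_P cvx_P 3 (cvtl2.Pt 0) cvtn1.plan [cvtl2, cvtl3]) = true := by decide +kernel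
theorem cktn1_0 : (Nat.ble cktl0.K 12 && Nat.beq (ltAll 13920 []) 0 && kChk cke_P ckx_P cktn1.Kn 2 B1 [] && H16.allL (ltAll 2) cktn1.pre && planOK ckth_P ckx_P 2 (cktl0.Pt 0) cktn1.plan [cktl0, cktl1, cktl2, cktl3]) = true := by decide +kernel
theorem cntn2_0 : (Nat.ble cntl4.K 11 && Nat.beq (ltAll 13920 [cntl3.Pt 0, cntl2.Pt 0, cntl1.Pt 0, cntl0.Pt 0]) 0 && kChk cntr2k_P cntn1y1213_P cntn2.Kn 2 B1 [cntl3.Pt 0, cntl2.Pt 0, cntl1.Pt 0, cntl0.Pt 0] && H16.allL (ltAll 2) cntn2.pre && planOK cnth_P cnx_P 2 (cntl4.Pt 0) cntn2.plan [cntl4]) = true := by decide +kernel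
theorem cltn4_0 : (Nat.ble cltl0.K 11 && Nat.beq (ltAll 13920 []) 0 && kChk cle_P clx_P cltn4.Kn 1 B1 [] && H16.allL (ltAll 1) cltn4.pre && planOK clth_P clx_P 1 (cltl0.Pt 0) cltn4.plan [cltl0, cltl1, cltl2, cltl3, cltl4, cltl5]) = true := by decide +kernel
theorem cptl1_e_0 : allZ (dent cptl1 cpth_P (nat_lit 13920)) (nat_lit 0) (nat_lit 55) = true := by decide +kernel
theorem cntn4_0 : (Nat.ble cntl2.K 11 && Nat.beq (ltAll 13920 [cntl1.Pt 0, cntl0.Pt 0]) 0 && kChk cntr4k_P cntn3y4379_P cntn4.Kn 2 B1 [cntl1.Pt 0, cntl0.Pt 0] && H16.allL (ltAll 2) cntn4.pre && planOK cnth_P cnx_P 2 (cntl2.Pt 0) cntn4.plan [cntl2, cntl3, cntl4]) = true := by decide +kernel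
theorem wzptn1_0 : (Nat.ble wzptl0.K 12 && Nat.beq (ltAll 13920 []) 0 && kChk wzpe_P wzpx_P wzptn1.Kn 3 B1 [] && H16.allL (ltAll 3) wzptn1.pre && planOK wzpth_P wzpx_P 3 (wzptl0.Pt 0) wzptn1.plan [wzptl0, wzptl1, wzptl2, wzptl3]) = true := by decide +kernel
theorem cl_f0 : (Nat.ble clc0.K 8 && Nat.ble (topK [clc1, clc2, clc3, clc5]) clc0.K && Nat.beq (clc0.Pt 0) (cltl0.Pt 0) && Nat.beq (ltAll 13920 []) 0 && kChk cle_P clx_P clc0.K 1 B1 []) = true := by decide +kernel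
theorem cptn3_0 : (Nat.ble cptl2.K 12 && Nat.beq (ltAll 13920 [cptl1.Pt 0, cptl0.Pt 0]) 0 && kChk cptr3k_P cptn2y8002_P cptn3.Kn 2 B1 [cptl1.Pt 0, cptl0.Pt 0] && H16.allL (ltAll 2) cptn3.pre && planOK cpth_P pf_P 2 (cptl2.Pt 0) cptn3.plan [cptl2, cptl3]) = true := by decide +kernel
theorem cftn10_0 : (Nat.ble cftl3.K 13 && Nat.beq (ltAll 13920 [cftl2.Pt 0, cftl1.Pt 0, cftl0.Pt 0]) 0 && kChk cftr10k_P cftn8y58_P cftn10.Kn 1 B1 [cftl2.Pt 0, cftl1.Pt 0, cftl0.Pt 0] && H16.allL (ltAll 1) cftn10.pre && planOK cfth_P cfx_P 1 (cftl3.Pt 0) cftn10.plan [cftl3, cftl4, cftl5]) = true := by decide +kernel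
theorem le29_0 : allZ (leEnt t_P ctx_P 9 B1 le29W) (nat_lit 0) (nat_lit 3) = true := by decide +kernel
theorem wzp_f0 : (Nat.ble wzpc0.K 2 && Nat.ble (topK [wzpc3]) wzpc0.K && Nat.beq (wzpc0.Pt 0) (wzptl0.Pt 0) && Nat.beq (ltAll 13920 []) 0 && kChk wzpe_P wzpx_P wzpc0.K 3 B1 []) = true := by decide +kernel
theorem wzptn0_0 : (Nat.ble wzptl3.K 12 && Nat.beq (ltAll 13920 [wzptl2.Pt 0, wzptl1.Pt 0, wzptl0.Pt 0]) 0 && kChk wzpe_P wzpx_P wzptn0.Kn 3 B1 [wzptl2.Pt 0, wzptl1.Pt 0, wzptl0.Pt 0] && H16.allL (ltAll 3) wzptn0.pre && planOK wzpth_P wzpx_P 3 (wzptl3.Pt 0) wzptn0.plan [wzptl3]) = true := by decide +kernel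
theorem cltn3_0 : (Nat.ble cltl1.K 11 && Nat.beq (ltAll 13920 [cltl0.Pt 0]) 0 && kChk cle_P clx_P cltn3.Kn 1 B1 [cltl0.Pt 0] && H16.allL (ltAll 1) cltn3.pre && planOK clth_P clx_P 1 (cltl1.Pt 0) cltn3.plan [cltl1, cltl2, cltl3, cltl4, cltl5]) = true := by decide +kernel
theorem cftn2_0 : (Nat.ble cftl5.K 13 && Nat.beq (ltAll 13920 [cftl4.Pt 0, cftl3.Pt 0, cftl2.Pt 0, cftl1.Pt 0, cftl0.Pt 0]) 0 && kChk cftr2k_P cftn1y14_P cftn2.Kn 1 B1 [cftl4.Pt 0, cftl3.Pt 0, cftl2.Pt 0, cftl1.Pt 0, cftl0.Pt 0] && H16.allL (ltAll 1) cftn2.pre && planOK cfth_P cfx_P 1 (cftl5.Pt 0) cftn2.plan [cftl5]) = true := by decide +kernel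
theorem cs56_a : allZ2 (cmEnt pf_P pf_P B1) (nat_lit 2) (nat_lit 2) = true := by decide +kernel
theorem cltn2_0 : (Nat.ble cltl2.K 11 && Nat.beq (ltAll 13920 [cltl1.Pt 0, cltl0.Pt 0]) 0 && kChk cle_P clx_P cltn2.Kn 1 B1 [cltl1.Pt 0, cltl0.Pt 0] && H16.allL (ltAll 1) cltn2.pre && planOK clth_P clx_P 1 (cltl2.Pt 0) cltn2.plan [cltl2, cltl3, cltl4, cltl5]) = true := by decide +kernel
theorem ck_f3 : (Nat.ble ckc3.K 2 && Nat.ble (topK []) ckc3.K && Nat.beq (ckc3.Pt 0) (cktl3.Pt 0) && Nat.beq (ltAll 13920 [cktl2.Pt 0, cktl1.Pt 0, cktl0.Pt 0]) 0 && kChk cke_P ckx_P ckc3.K 2 B1 [cktl2.Pt 0, cktl1.Pt 0, cktl0.Pt 0]) = true := by decide +kernel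
theorem cftn6_0 : (Nat.ble cftl4.K 13 && Nat.beq (ltAll 13920 [cftl3.Pt 0, cftl2.Pt 0, cftl1.Pt 0, cftl0.Pt 0]) 0 && kChk cftr6k_P cftn5y1_P cftn6.Kn 1 B1 [cftl3.Pt 0, cftl2.Pt 0, cftl1.Pt 0, cftl0.Pt 0] && H16.allL (ltAll 1) cftn6.pre && planOK cfth_P cfx_P 1 (cftl4.Pt 0) cftn6.plan [cftl4, cftl5]) = true := by decide +kernel
theorem ck_f0 : (Nat.ble ckc0.K 2 && Nat.ble (topK [ckc3]) ckc0.K && Nat.beq (ckc0.Pt 0) (cktl0.Pt 0) && Nat.beq (ltAll 13920 []) 0 && kChk cke_P ckx_P ckc0.K 2 B1 []) = true := by decide +kernel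
theorem cltn6_0 : (Nat.ble cltl2.K 11 && Nat.beq (ltAll 13920 [cltl1.Pt 0, cltl0.Pt 0]) 0 && kChk cltr6k_P cltn5y12372_P cltn6.Kn 1 B1 [cltl1.Pt 0, cltl0.Pt 0] && H16.allL (ltAll 1) cltn6.pre && planOK clth_P clx_P 1 (cltl2.Pt 0) cltn6.plan [cltl2, cltl3, cltl4, cltl5]) = true := by decide +kernel
theorem cltn5_0 : (Nat.ble cltl1.K 11 && Nat.beq (ltAll 13920 [cltl0.Pt 0]) 0 && kChk cltr5k_P cltn4y5062_P cltn5.Kn 1 B1 [cltl0.Pt 0] && H16.allL (ltAll 1) cltn5.pre && planOK clth_P clx_P 1 (cltl1.Pt 0) cltn5.plan [cltl1, cltl2, cltl3, cltl4, cltl5]) = true := by decide +kernel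
theorem wzp_f3 : (Nat.ble wzpc3.K 2 && Nat.ble (topK []) wzpc3.K && Nat.beq (wzpc3.Pt 0) (wzptl3.Pt 0) && Nat.beq (ltAll 13920 [wzptl2.Pt 0, wzptl1.Pt 0, wzptl0.Pt 0]) 0 && kChk wzpe_P wzpx_P wzpc3.K 3 B1 [wzptl2.Pt 0, wzptl1.Pt 0, wzptl0.Pt 0]) = true := by decide +kernel
theorem ct_f3 : (Nat.ble ctc3.K 1 && Nat.ble (topK []) ctc3.K && Nat.beq (ctc3.Pt 0) (cttl3.Pt 0) && Nat.beq (ltAll 13920 [cttl2.Pt 0, cttl1.Pt 0, cttl0.Pt 0]) 0 && kChk cte_P ctx_P ctc3.K 3 B1 [cttl2.Pt 0, cttl1.Pt 0, cttl0.Pt 0]) = true := by decide +kernel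
theorem cltn6_1_0 : allZ (cltn6.ent Tm clth_P clx_P cltn5y12372_P cltr6k_P (nat_lit 5) (nat_lit 1) B1 cltl2 [cltl3, cltl4, cltl5] (fun _ => nat_lit 1)) (nat_lit 0) (nat_lit 14) = true := by decide +kernel
theorem cm11 : 15 < 68 ∧ allZ (fun j => H16.force j (cmEnt bix_P (wdsP Tm wW) B1 15)) 0 3 = true := by decide +kernel
theorem cltn8_0 : (Nat.ble cltl5.K 11 && Nat.beq (ltAll 13920 [cltl4.Pt 0, cltl3.Pt 0, cltl2.Pt 0, cltl1.Pt 0, cltl0.Pt 0]) 0 && kChk cltr8k_P cltn7y461_P cltn8.Kn 1 B1 [cltl4.Pt 0, cltl3.Pt 0, cltl2.Pt 0, cltl1.Pt 0, cltl0.Pt 0] && H16.allL (ltAll 1) cltn8.pre && planOK clth_P clx_P 1 (cltl5.Pt 0) cltn8.plan [cltl5]) = true := by decide +kernel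
theorem cl7_0 : allZ (clEnt wie_P (wdsP Tm wW) 67 68 B1 cl7L en6W) (nat_lit 0) (nat_lit 4) = true := by decide +kernel
theorem cptn0_0 : (Nat.ble cptl3.K 12 && Nat.beq (ltAll 13920 [cptl2.Pt 0, cptl1.Pt 0, cptl0.Pt 0]) 0 && kChk cpe_P pf_P cptn0.Kn 2 B1 [cptl2.Pt 0, cptl1.Pt 0, cptl0.Pt 0] && H16.allL (ltAll 2) cptn0.pre && planOK cpth_P pf_P 2 (cptl3.Pt 0) cptn0.plan [cptl3]) = true := by decide +kernel
theorem cm1 : 0 < 68 ∧ allZ (fun j => H16.force j (cmEnt Tm (wdsP Tm wW) B1 0)) 0 6 = true := by decide +kernel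
theorem cktn0_0 : (Nat.ble cktl3.K 12 && Nat.beq (ltAll 13920 [cktl2.Pt 0, cktl1.Pt 0, cktl0.Pt 0]) 0 && kChk cke_P ckx_P cktn0.Kn 2 B1 [cktl2.Pt 0, cktl1.Pt 0, cktl0.Pt 0] && H16.allL (ltAll 2) cktn0.pre && planOK ckth_P ckx_P 2 (cktl3.Pt 0) cktn0.plan [cktl3]) = true := by decide +kernel
theorem cm33 : 6 < 68 ∧ allZ (fun j => H16.force j (cmEnt Tm (wdsP Tm wW) B1 6)) 0 4 = true := by decide +kernel
theorem cm50 : 6 < 68 ∧ allZ (fun j => H16.force j (cmEnt Tm (wdsP Tm wW) B1 6)) 0 4 = true := by decide +kernel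
theorem cf_f0 : (Nat.ble cfc0.K 5 && Nat.ble (topK [cfc3, cfc5]) cfc0.K && Nat.beq (cfc0.Pt 0) (cftl0.Pt 0) && Nat.beq (ltAll 13920 []) 0 && kChk cfe_P cfx_P cfc0.K 1 B1 []) = true := by decide +kernel
theorem cftn0_0 : (Nat.ble cftl5.K 13 && Nat.beq (ltAll 13920 [cftl4.Pt 0, cftl3.Pt 0, cftl2.Pt 0, cftl1.Pt 0, cftl0.Pt 0]) 0 && kChk cfe_P cfx_P cftn0.Kn 1 B1 [cftl4.Pt 0, cftl3.Pt 0, cftl2.Pt 0, cftl1.Pt 0, cftl0.Pt 0] && H16.allL (ltAll 1) cftn0.pre && planOK cfth_P cfx_P 1 (cftl5.Pt 0) cftn0.plan [cftl5]) = true := by decide +kernel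
theorem cm57 : 2 < 68 ∧ allZ (fun j => H16.force j (cmEnt pf_P (wdsP Tm wW) B1 2)) 0 2 = true := by decide +kernel
theorem cftn1_0 : (Nat.ble cftl4.K 13 && Nat.beq (ltAll 13920 [cftl3.Pt 0, cftl2.Pt 0, cftl1.Pt 0, cftl0.Pt 0]) 0 && kChk cfe_P cfx_P cftn1.Kn 1 B1 [cftl3.Pt 0, cftl2.Pt 0, cftl1.Pt 0, cftl0.Pt 0] && H16.allL (ltAll 1) cftn1.pre && planOK cfth_P cfx_P 1 (cftl4.Pt 0) cftn1.plan [cftl4, cftl5]) = true := by decide +kernel
theorem cntl1_e_0 : allZ (dent cntl1 cnth_P (nat_lit 13920)) (nat_lit 0) (nat_lit 20) = true := by decide +kernel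
theorem bitl1_e_0 : allZ (dent bitl1 bith_P (nat_lit 13920)) (nat_lit 0) (nat_lit 20) = true := by decide +kernel
theorem en9b_0 : allZ (enEnt bie_P en9T en9W (nat_lit 3)) (nat_lit 0) (nat_lit 4) = true := by decide +kernel
theorem cytn2_1_0 : allZ (cytn2.ent Tm cyth_P cyx_P cytn1y8002_P cytr2k_P (nat_lit 6) (nat_lit 3) B1 cytl2 [] (fun _ => nat_lit 1)) (nat_lit 0) (nat_lit 12) = true := by decide +kernel
theorem cltl2_e_0 : allZ (dent cltl2 clth_P (nat_lit 13920)) (nat_lit 0) (nat_lit 13) = true := by decide +kernel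
theorem cftn1_1_0 : allZ (cftn1.ent Tm cfth_P cfx_P cfx_P cfe_P (nat_lit 6) (nat_lit 1) B1 cftl4 [cftl5] (fun w => Nat.xor w (cftl4.Pt (nat_lit 0)))) (nat_lit 0) (nat_lit 2) = true := by decide +kernel
theorem cltn2_1_0 : allZ (cltn2.ent Tm clth_P clx_P clx_P cle_P (nat_lit 5) (nat_lit 1) B1 cltl2 [cltl3, cltl4, cltl5] (memO clc2)) (nat_lit 0) (nat_lit 14) = true := by decide +kernel
theorem en6b_0 : allZ (enEnt wie_P en6T en6W (nat_lit 3)) (nat_lit 0) (nat_lit 4) = true := by decide +kernel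
theorem cytl2_e_0 : allZ (dent cytl2 cyth_P (nat_lit 13920)) (nat_lit 0) (nat_lit 11) = true := by decide +kernel
theorem cftn4_1_0 : allZ (cftn4.ent Tm cfth_P cfx_P cfx_P cfe_P (nat_lit 6) (nat_lit 1) B1 cftl2 [cftl3, cftl4, cftl5] (fun w => Nat.xor w (cftl2.Pt (nat_lit 0)))) (nat_lit 0) (nat_lit 2) = true := by decide +kernel
theorem en46c : 0 < 72 ∧ H16.allL (ltAll 4) en46W = true ∧ ∀ β ∈ B1, ∃ j < 3, en46T j 0 = β := by decide +kernel
theorem en30c : 0 < 64 ∧ H16.allL (ltAll 5) en30W = true ∧ ∀ β ∈ B1, ∃ j < 3, en30T j 0 = β := by decide +kernel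
theorem cm5 : 1 < 68 ∧ allZ (fun j => H16.force j (cmEnt pf_P (wdsP Tm wW) B1 1)) 0 2 = true := by decide +kernel
theorem me38 : 2 < 68 ∧ ltAll 9 [nat_lit 1, nat_lit 6, nat_lit 5] = 0 ∧ sumL (fun β => Nat.xor ((wdsP Tm wW) 2 β) (apW t_P [nat_lit 1, nat_lit 6, nat_lit 5] β)) B1 = 0 := by decide +kernel
theorem en6c : 0 < 4 ∧ H16.allL (ltAll 2) en6W = true ∧ ∀ β ∈ B1, ∃ j < 3, en6T j 0 = β := by decide +kernel
theorem en12c : 0 < 4 ∧ H16.allL (ltAll 2) en12W = true ∧ ∀ β ∈ B1, ∃ j < 3, en12T j 0 = β := by decide +kernel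
theorem t_b : neL B1 (tB.map tE) = 0 ∧ ltAll 1792 tB = 0 := by decide +kernel
theorem tl0_h : 0 < tl0.n ∧ 0 < tl0.K ∧ tl0.Pt 0 < 1792 ∧ tl0.Q (tl0.Pt 0) = 0 := by decide +kernel
theorem t_c : chainCard [tl0, tl1] = 2 ^ 10 ∧ ¬ 2 ^ (10 + 1) ∣ 322560 := by decide +kernel
theorem pf_b : neL B1 (pfB.map pfE) = 0 ∧ ltAll 27 pfB = 0 := by decide +kernel
theorem pfl0_h : 0 < pfl0.n ∧ 0 < pfl0.K ∧ pfl0.Pt 0 < 27 ∧ pfl0.Q (pfl0.Pt 0) = 0 := by decide +kernel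
theorem wix_lt : H16.allL (ltAll 6) wix_W = true := by decide +kernel
theorem witl0_h : 0 < witl0.n ∧ 0 < witl0.K ∧ witl0.Pt 0 < 13920 ∧ witl0.Q (witl0.Pt 0) = 0 := by decide +kernel
theorem witl2_h : 0 < witl2.n ∧ 0 < witl2.K ∧ witl2.Pt 0 < 13920 ∧ witl2.Q (witl2.Pt 0) = 0 := by decide +kernel
theorem wit_c : chainCard [witl0, witl1, witl2, witl3] = 322560 := by decide +kernel
theorem wic3_h : 0 < wic3.n ∧ 0 < wic3.K ∧ wic3.Pt 0 < 13920 ∧ wic3.Q (wic3.Pt 0) = 0 := by decide +kernel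
theorem witn1y2385_lt : H16.allL (ltAll 6) witn1y2385_W = true := by decide +kernel
theorem wi_c : chainCard [wic0, wic3] = 4 ∧ topK [wic0, wic3] = 2 := by decide +kernel
theorem bith_lt : H16.allL (ltAll 6) bith_W = true := by decide +kernel
theorem bitl1_h : 0 < bitl1.n ∧ 0 < bitl1.K ∧ bitl1.Pt 0 < 13920 ∧ bitl1.Q (bitl1.Pt 0) = 0 := by decide +kernel
theorem bitl3_h : 0 < bitl3.n ∧ 0 < bitl3.K ∧ bitl3.Pt 0 < 13920 ∧ bitl3.Q (bitl3.Pt 0) = 0 := by decide +kernel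
theorem bie_lt : H16.allL (ltAll 6) bie_W = true := by decide +kernel
theorem bic0_h : 0 < bic0.n ∧ 0 < bic0.K ∧ bic0.Pt 0 < 13920 ∧ bic0.Q (bic0.Pt 0) = 0 := by decide +kernel
theorem bitr2k_lt : H16.allL (ltAll 6) bitr2k_W = true := by decide +kernel
theorem wzpx_lt : H16.allL (ltAll 6) wzpx_W = true := by decide +kernel
theorem wzptl0_h : 0 < wzptl0.n ∧ 0 < wzptl0.K ∧ wzptl0.Pt 0 < 13920 ∧ wzptl0.Q (wzptl0.Pt 0) = 0 := by decide +kernel
theorem wzptl2_h : 0 < wzptl2.n ∧ 0 < wzptl2.K ∧ wzptl2.Pt 0 < 13920 ∧ wzptl2.Q (wzptl2.Pt 0) = 0 := by decide +kernel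
theorem wzpt_c : chainCard [wzptl0, wzptl1, wzptl2, wzptl3] = 322560 := by decide +kernel
theorem wzpc3_h : 0 < wzpc3.n ∧ 0 < wzpc3.K ∧ wzpc3.Pt 0 < 13920 ∧ wzpc3.Q (wzpc3.Pt 0) = 0 := by decide +kernel
theorem wzp_c : chainCard [wzpc0, wzpc3] = 4 ∧ topK [wzpc0, wzpc3] = 2 := by decide +kernel
theorem cj_lt : H16.allL (ltAll 11) cj_W = true := by decide +kernel
theorem cfth_lt : H16.allL (ltAll 6) cfth_W = true := by decide +kernel
theorem cftl1_h : 0 < cftl1.n ∧ 0 < cftl1.K ∧ cftl1.Pt 0 < 13920 ∧ cftl1.Q (cftl1.Pt 0) = 0 := by decide +kernel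
theorem cftl3_h : 0 < cftl3.n ∧ 0 < cftl3.K ∧ cftl3.Pt 0 < 13920 ∧ cftl3.Q (cftl3.Pt 0) = 0 := by decide +kernel
theorem cftl5_h : 0 < cftl5.n ∧ 0 < cftl5.K ∧ cftl5.Pt 0 < 13920 ∧ cftl5.Q (cftl5.Pt 0) = 0 := by decide +kernel
theorem cfe_lt : H16.allL (ltAll 6) cfe_W = true := by decide +kernel
theorem cftn1y14_lt : H16.allL (ltAll 6) cftn1y14_W = true := by decide +kernel
theorem cfc3_h : 0 < cfc3.n ∧ 0 < cfc3.K ∧ cfc3.Pt 0 < 13920 ∧ cfc3.Q (cfc3.Pt 0) = 0 := by decide +kernel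
theorem cftr5k_lt : H16.allL (ltAll 6) cftr5k_W = true := by decide +kernel
theorem cftr6k_lt : H16.allL (ltAll 6) cftr6k_W = true := by decide +kernel
theorem cftn7y229_lt : H16.allL (ltAll 6) cftn7y229_W = true := by decide +kernel
theorem cftn8y52_lt : H16.allL (ltAll 6) cftn8y52_W = true := by decide +kernel
theorem cftn8y58_lt : H16.allL (ltAll 6) cftn8y58_W = true := by decide +kernel
theorem cf_c : chainCard [cfc0, cfc3, cfc5] = 240 ∧ topK [cfc0, cfc3, cfc5] = 5 := by decide +kernel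
theorem ctth_lt : H16.allL (ltAll 6) ctth_W = true := by decide +kernel
theorem cttl1_h : 0 < cttl1.n ∧ 0 < cttl1.K ∧ cttl1.Pt 0 < 13920 ∧ cttl1.Q (cttl1.Pt 0) = 0 := by decide +kernel
theorem cttl3_h : 0 < cttl3.n ∧ 0 < cttl3.K ∧ cttl3.Pt 0 < 13920 ∧ cttl3.Q (cttl3.Pt 0) = 0 := by decide +kernel
theorem cte_lt : H16.allL (ltAll 6) cte_W = true := by decide +kernel
theorem cttn1y229_lt : H16.allL (ltAll 6) cttn1y229_W = true := by decide +kernel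
theorem cttn1y2583_lt : H16.allL (ltAll 6) cttn1y2583_W = true := by decide +kernel
theorem cttn1y5460_lt : H16.allL (ltAll 6) cttn1y5460_W = true := by decide +kernel
theorem ct_c : chainCard [ctc3] = 2 ∧ topK [ctc3] = 1 := by decide +kernel
theorem ckth_lt : H16.allL (ltAll 6) ckth_W = true := by decide +kernel
theorem cktl1_h : 0 < cktl1.n ∧ 0 < cktl1.K ∧ cktl1.Pt 0 < 13920 ∧ cktl1.Q (cktl1.Pt 0) = 0 := by decide +kernel
theorem cktl3_h : 0 < cktl3.n ∧ 0 < cktl3.K ∧ cktl3.Pt 0 < 13920 ∧ cktl3.Q (cktl3.Pt 0) = 0 := by decide +kernel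
theorem cke_lt : H16.allL (ltAll 6) cke_W = true := by decide +kernel
theorem ckc0_h : 0 < ckc0.n ∧ 0 < ckc0.K ∧ ckc0.Pt 0 < 13920 ∧ ckc0.Q (ckc0.Pt 0) = 0 := by decide +kernel
theorem clx_lt : H16.allL (ltAll 5) clx_W = true := by decide +kernel
theorem cltl0_h : 0 < cltl0.n ∧ 0 < cltl0.K ∧ cltl0.Pt 0 < 13920 ∧ cltl0.Q (cltl0.Pt 0) = 0 := by decide +kernel
theorem cltl2_h : 0 < cltl2.n ∧ 0 < cltl2.K ∧ cltl2.Pt 0 < 13920 ∧ cltl2.Q (cltl2.Pt 0) = 0 := by decide +kernel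
theorem cltl4_h : 0 < cltl4.n ∧ 0 < cltl4.K ∧ cltl4.Pt 0 < 13920 ∧ cltl4.Q (cltl4.Pt 0) = 0 := by decide +kernel
theorem clt_c : chainCard [cltl0, cltl1, cltl2, cltl3, cltl4, cltl5] = 161280 := by decide +kernel
theorem clc5_h : 0 < clc5.n ∧ 0 < clc5.K ∧ clc5.Pt 0 < 13920 ∧ clc5.Q (clc5.Pt 0) = 0 := by decide +kernel
theorem clc2_h : 0 < clc2.n ∧ 0 < clc2.K ∧ clc2.Pt 0 < 13920 ∧ clc2.Q (clc2.Pt 0) = 0 := by decide +kernel
theorem clc0_h : 0 < clc0.n ∧ 0 < clc0.K ∧ clc0.Pt 0 < 13920 ∧ clc0.Q (clc0.Pt 0) = 0 := by decide +kernel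
theorem cltr5k_lt : H16.allL (ltAll 5) cltr5k_W = true := by decide +kernel
theorem cltr6k_lt : H16.allL (ltAll 5) cltr6k_W = true := by decide +kernel
theorem cltr7k_lt : H16.allL (ltAll 5) cltr7k_W = true := by decide +kernel
theorem cltr8k_lt : H16.allL (ltAll 5) cltr8k_W = true := by decide +kernel
theorem nu_lt : H16.allL (ltAll 6) nu_W = true := by decide +kernel
theorem cnth_lt : H16.allL (ltAll 5) cnth_W = true := by decide +kernel
theorem cntl1_h : 0 < cntl1.n ∧ 0 < cntl1.K ∧ cntl1.Pt 0 < 13920 ∧ cntl1.Q (cntl1.Pt 0) = 0 := by decide +kernel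
theorem cntl3_h : 0 < cntl3.n ∧ 0 < cntl3.K ∧ cntl3.Pt 0 < 13920 ∧ cntl3.Q (cntl3.Pt 0) = 0 := by decide +kernel
theorem cnt_c : chainCard [cntl0, cntl1, cntl2, cntl3, cntl4] = 161280 := by decide +kernel
theorem cnc4_h : 0 < cnc4.n ∧ 0 < cnc4.K ∧ cnc4.Pt 0 < 13920 ∧ cnc4.Q (cnc4.Pt 0) = 0 := by decide +kernel
theorem cntn1y1213_lt : H16.allL (ltAll 5) cntn1y1213_W = true := by decide +kernel
theorem cnc0_h : 0 < cnc0.n ∧ 0 < cnc0.K ∧ cnc0.Pt 0 < 13920 ∧ cnc0.Q (cnc0.Pt 0) = 0 := by decide +kernel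
theorem cntr4k_lt : H16.allL (ltAll 5) cntr4k_W = true := by decide +kernel
theorem cpth_lt : H16.allL (ltAll 6) cpth_W = true := by decide +kernel
theorem cptl1_h : 0 < cptl1.n ∧ 0 < cptl1.K ∧ cptl1.Pt 0 < 13920 ∧ cptl1.Q (cptl1.Pt 0) = 0 := by decide +kernel
theorem cptl3_h : 0 < cptl3.n ∧ 0 < cptl3.K ∧ cptl3.Pt 0 < 13920 ∧ cptl3.Q (cptl3.Pt 0) = 0 := by decide +kernel
theorem cpe_lt : H16.allL (ltAll 6) cpe_W = true := by decide +kernel
theorem cpc2_h : 0 < cpc2.n ∧ 0 < cpc2.K ∧ cpc2.Pt 0 < 13920 ∧ cpc2.Q (cpc2.Pt 0) = 0 := by decide +kernel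
theorem cptn2y8002_lt : H16.allL (ltAll 6) cptn2y8002_W = true := by decide +kernel
theorem cp_c : chainCard [cpc0, cpc2, cpc3] = 72 ∧ topK [cpc0, cpc2, cpc3] = 4 := by decide +kernel
theorem cyx_lt : H16.allL (ltAll 6) cyx_W = true := by decide +kernel
theorem cytl0_h : 0 < cytl0.n ∧ 0 < cytl0.K ∧ cytl0.Pt 0 < 13920 ∧ cytl0.Q (cytl0.Pt 0) = 0 := by decide +kernel
theorem cytl2_h : 0 < cytl2.n ∧ 0 < cytl2.K ∧ cytl2.Pt 0 < 13920 ∧ cytl2.Q (cytl2.Pt 0) = 0 := by decide +kernel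
theorem cye_lt : H16.allL (ltAll 6) cye_W = true := by decide +kernel
theorem cyc0_h : 0 < cyc0.n ∧ 0 < cyc0.K ∧ cyc0.Pt 0 < 13920 ∧ cyc0.Q (cyc0.Pt 0) = 0 := by decide +kernel
theorem cytr2k_lt : H16.allL (ltAll 6) cytr2k_W = true := by decide +kernel
theorem cvx_lt : H16.allL (ltAll 6) cvx_W = true := by decide +kernel
theorem cvtl0_h : 0 < cvtl0.n ∧ 0 < cvtl0.K ∧ cvtl0.Pt 0 < 13920 ∧ cvtl0.Q (cvtl0.Pt 0) = 0 := by decide +kernel
theorem cvtl2_h : 0 < cvtl2.n ∧ 0 < cvtl2.K ∧ cvtl2.Pt 0 < 13920 ∧ cvtl2.Q (cvtl2.Pt 0) = 0 := by decide +kernel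
theorem cvt_c : chainCard [cvtl0, cvtl1, cvtl2, cvtl3] = 322560 := by decide +kernel
theorem cvc3_h : 0 < cvc3.n ∧ 0 < cvc3.K ∧ cvc3.Pt 0 < 13920 ∧ cvc3.Q (cvc3.Pt 0) = 0 := by decide +kernel
theorem cvtn1y4826_lt : H16.allL (ltAll 6) cvtn1y4826_W = true := by decide +kernel
theorem cvc0_h : 0 < cvc0.n ∧ 0 < cvc0.K ∧ cvc0.Pt 0 < 13920 ∧ cvc0.Q (cvc0.Pt 0) = 0 := by decide +kernel
theorem w_lt : H16.allL (ltAll 6) wW = true := by decide +kernel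
theorem u_lt : H16.allL (ltAll 10) uW = true := by decide +kernel
theorem me37 : 1 < 68 ∧ ltAll 9 [nat_lit 0, nat_lit 5, nat_lit 6] = 0 ∧ sumL (fun β => Nat.xor ((wdsP Tm wW) 1 β) (apW t_P [nat_lit 0, nat_lit 5, nat_lit 6] β)) B1 = 0 := by decide +kernel
theorem wzptl2_e_0 : allZ (dent wzptl2 wzpth_P (nat_lit 13920)) (nat_lit 0) (nat_lit 7) = true := by decide +kernel
theorem cnc0_e_0 : allZ (dent cnc0 cne_P (nat_lit 13920)) (nat_lit 0) (nat_lit 7) = true := by decide +kernel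
theorem wzp_f2 : (Nat.ble wzptl2.K 12 && Nat.blt (nat_lit 4450) 13920 && fixLetters wzpth_P wzptl2.K (nat_lit 4450) && Nat.beq (ltAll 3 [nat_lit 0, nat_lit 1]) 0 && Nat.beq (apW wzpx_P [nat_lit 0, nat_lit 1] (nat_lit 4450)) (wzptl2.Pt 0)) = true := by decide +kernel
theorem cv_f1 : (Nat.ble cvtl1.K 12 && Nat.blt (nat_lit 7184) 13920 && fixLetters cvth_P cvtl1.K (nat_lit 7184) && Nat.beq (ltAll 3 [nat_lit 1]) 0 && Nat.beq (apW cvx_P [nat_lit 1] (nat_lit 7184)) (cvtl1.Pt 0)) = true := by decide +kernel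
theorem cft_f5 : (Nat.ble cftl5.K 13 && Nat.ble (topK []) cftl5.K && fixLetters cfth_P (topK []) (cftl5.Pt 0)) = true := by decide +kernel
theorem cft_f3 : (Nat.ble cftl3.K 13 && Nat.ble (topK [cftl4, cftl5]) cftl3.K && fixLetters cfth_P (topK [cftl4, cftl5]) (cftl3.Pt 0)) = true := by decide +kernel
theorem cft_f1 : (Nat.ble cftl1.K 13 && Nat.ble (topK [cftl2, cftl3, cftl4, cftl5]) cftl1.K && fixLetters cfth_P (topK [cftl2, cftl3, cftl4, cftl5]) (cftl1.Pt 0)) = true := by decide +kernel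
theorem bi_f1 : (Nat.ble bitl1.K 11 && Nat.blt (nat_lit 262) 13920 && fixLetters bith_P bitl1.K (nat_lit 262) && Nat.beq (ltAll 3 [nat_lit 0, nat_lit 0]) 0 && Nat.beq (apW bix_P [nat_lit 0, nat_lit 0] (nat_lit 262)) (bitl1.Pt 0)) = true := by decide +kernel
theorem wi_f2 : (Nat.ble witl2.K 12 && Nat.blt (nat_lit 1139) 13920 && fixLetters with_P witl2.K (nat_lit 1139) && Nat.beq (ltAll 3 [nat_lit 1]) 0 && Nat.beq (apW wix_P [nat_lit 1] (nat_lit 1139)) (witl2.Pt 0)) = true := by decide +kernel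
theorem ct_f1 : (Nat.ble cttl1.K 12 && Nat.blt (nat_lit 0) 13920 && fixLetters ctth_P cttl1.K (nat_lit 0) && Nat.beq (ltAll 3 [nat_lit 1]) 0 && Nat.beq (apW ctx_P [nat_lit 1] (nat_lit 0)) (cttl1.Pt 0)) = true := by decide +kernel
theorem cy_f1 : (Nat.ble cytl1.K 12 && Nat.blt (nat_lit 582) 13920 && fixLetters cyth_P cytl1.K (nat_lit 582) && Nat.beq (ltAll 3 [nat_lit 0]) 0 && Nat.beq (apW cyx_P [nat_lit 0] (nat_lit 582)) (cytl1.Pt 0)) = true := by decide +kernel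
theorem cn_f1 : (Nat.ble cntl1.K 11 && Nat.blt (nat_lit 52) 13920 && fixLetters cnth_P cntl1.K (nat_lit 52) && Nat.beq (ltAll 2 [nat_lit 1]) 0 && Nat.beq (apW cnx_P [nat_lit 1] (nat_lit 52)) (cntl1.Pt 0)) = true := by decide +kernel
theorem witl2_e_0 : allZ (dent witl2 with_P (nat_lit 13920)) (nat_lit 0) (nat_lit 5) = true := by decide +kernel
theorem ck_f1 : (Nat.ble cktl1.K 12 && Nat.blt (nat_lit 292) 13920 && fixLetters ckth_P cktl1.K (nat_lit 292) && Nat.beq (ltAll 2 [nat_lit 1]) 0 && Nat.beq (apW ckx_P [nat_lit 1] (nat_lit 292)) (cktl1.Pt 0)) = true := by decide +kernel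
theorem cpt_f3 : (Nat.ble cptl3.K 12 && Nat.ble (topK []) cptl3.K && fixLetters cpth_P (topK []) (cptl3.Pt 0)) = true := by decide +kernel
theorem cpt_f1 : (Nat.ble cptl1.K 12 && Nat.ble (topK [cptl2, cptl3]) cptl1.K && fixLetters cpth_P (topK [cptl2, cptl3]) (cptl1.Pt 0)) = true := by decide +kernel
theorem cttl2_e_0 : allZ (dent cttl2 ctth_P (nat_lit 13920)) (nat_lit 0) (nat_lit 5) = true := by decide +kernel
theorem cvt_f1 : (Nat.ble cvtl1.K 12 && Nat.ble (topK [cvtl2, cvtl3]) cvtl1.K && fixLetters cvth_P (topK [cvtl2, cvtl3]) (cvtl1.Pt 0)) = true := by decide +kernel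
theorem cl_f4 : (Nat.ble cltl4.K 11 && Nat.blt (nat_lit 461) 13920 && fixLetters clth_P cltl4.K (nat_lit 461) && Nat.beq (ltAll 1 [nat_lit 0]) 0 && Nat.beq (apW clx_P [nat_lit 0] (nat_lit 461)) (cltl4.Pt 0)) = true := by decide +kernel
theorem cyc2_e_0 : allZ (dent cyc2 cye_P (nat_lit 13920)) (nat_lit 0) (nat_lit 5) = true := by decide +kernel
theorem wzpt_f2 : (Nat.ble wzptl2.K 12 && Nat.ble (topK [wzptl3]) wzptl2.K && fixLetters wzpth_P (topK [wzptl3]) (wzptl2.Pt 0)) = true := by decide +kernel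
theorem wzpt_f0 : (Nat.ble wzptl0.K 12 && Nat.ble (topK [wzptl1, wzptl2, wzptl3]) wzptl0.K && fixLetters wzpth_P (topK [wzptl1, wzptl2, wzptl3]) (wzptl0.Pt 0)) = true := by decide +kernel
theorem cyt_f1 : (Nat.ble cytl1.K 12 && Nat.ble (topK [cytl2]) cytl1.K && fixLetters cyth_P (topK [cytl2]) (cytl1.Pt 0)) = true := by decide +kernel
theorem wzptn0_1_0 : allZ (wzptn0.ent Tm wzpth_P wzpx_P wzpx_P wzpe_P (nat_lit 6) (nat_lit 3) B1 wzptl3 [] (memO wzpc3)) (nat_lit 0) (nat_lit 4) = true := by decide +kernel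
theorem cvc0_e_0 : allZ (dent cvc0 cve_P (nat_lit 13920)) (nat_lit 0) (nat_lit 5) = true := by decide +kernel
theorem wit_f2 : (Nat.ble witl2.K 12 && Nat.ble (topK [witl3]) witl2.K && fixLetters with_P (topK [witl3]) (witl2.Pt 0)) = true := by decide +kernel
theorem wit_f0 : (Nat.ble witl0.K 12 && Nat.ble (topK [witl1, witl2, witl3]) witl0.K && fixLetters with_P (topK [witl1, witl2, witl3]) (witl0.Pt 0)) = true := by decide +kernel
theorem ctt_f2 : (Nat.ble cttl2.K 12 && Nat.ble (topK [cttl3]) cttl2.K && fixLetters ctth_P (topK [cttl3]) (cttl2.Pt 0)) = true := by decide +kernel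
theorem ctt_f0 : (Nat.ble cttl0.K 12 && Nat.ble (topK [cttl1, cttl2, cttl3]) cttl0.K && fixLetters ctth_P (topK [cttl1, cttl2, cttl3]) (cttl0.Pt 0)) = true := by decide +kernel
theorem clt_f4 : (Nat.ble cltl4.K 11 && Nat.ble (topK [cltl5]) cltl4.K && fixLetters clth_P (topK [cltl5]) (cltl4.Pt 0)) = true := by decide +kernel
theorem clt_f2 : (Nat.ble cltl2.K 11 && Nat.ble (topK [cltl3, cltl4, cltl5]) cltl2.K && fixLetters clth_P (topK [cltl3, cltl4, cltl5]) (cltl2.Pt 0)) = true := by decide +kernel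
theorem clt_f0 : (Nat.ble cltl0.K 11 && Nat.ble (topK [cltl1, cltl2, cltl3, cltl4, cltl5]) cltl0.K && fixLetters clth_P (topK [cltl1, cltl2, cltl3, cltl4, cltl5]) (cltl0.Pt 0)) = true := by decide +kernel
theorem cnt_f3 : (Nat.ble cntl3.K 11 && Nat.ble (topK [cntl4]) cntl3.K && fixLetters cnth_P (topK [cntl4]) (cntl3.Pt 0)) = true := by decide +kernel
theorem cnt_f1 : (Nat.ble cntl1.K 11 && Nat.ble (topK [cntl2, cntl3, cntl4]) cntl1.K && fixLetters cnth_P (topK [cntl2, cntl3, cntl4]) (cntl1.Pt 0)) = true := by decide +kernel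
theorem cptl2_e_0 : allZ (dent cptl2 cpth_P (nat_lit 13920)) (nat_lit 0) (nat_lit 5) = true := by decide +kernel
theorem ckt_f3 : (Nat.ble cktl3.K 12 && Nat.ble (topK []) cktl3.K && fixLetters ckth_P (topK []) (cktl3.Pt 0)) = true := by decide +kernel
theorem ckt_f1 : (Nat.ble cktl1.K 12 && Nat.ble (topK [cktl2, cktl3]) cktl1.K && fixLetters ckth_P (topK [cktl2, cktl3]) (cktl1.Pt 0)) = true := by decide +kernel
theorem cntn2_1_0 : allZ (cntn2.ent Tm cnth_P cnx_P cntn1y1213_P cntr2k_P (nat_lit 5) (nat_lit 2) B1 cntl4 [] (fun _ => nat_lit 1)) (nat_lit 0) (nat_lit 4) = true := by decide +kernel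
theorem bit_f1 : (Nat.ble bitl1.K 11 && Nat.ble (topK [bitl2, bitl3]) bitl1.K && fixLetters bith_P (topK [bitl2, bitl3]) (bitl1.Pt 0)) = true := by decide +kernel
theorem cpc0_e_0 : allZ (dent cpc0 cpe_P (nat_lit 13920)) (nat_lit 0) (nat_lit 5) = true := by decide +kernel
theorem cyc0_e_0 : allZ (dent cyc0 cye_P (nat_lit 13920)) (nat_lit 0) (nat_lit 5) = true := by decide +kernel
theorem en27b_0 : allZ (enEnt cte_P en27T en27W (nat_lit 3)) (nat_lit 0) (nat_lit 2) = true := by decide +kernel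
theorem wzptl3_e_0 : allZ (dent wzptl3 wzpth_P (nat_lit 13920)) (nat_lit 0) (nat_lit 3) = true := by decide +kernel
theorem cktl2_e_0 : allZ (dent cktl2 ckth_P (nat_lit 13920)) (nat_lit 0) (nat_lit 3) = true := by decide +kernel
theorem t_f0 : (Nat.ble tl0.K 25 && Nat.ble (topK [tl1]) tl0.K && fixLetters (wdsP tP te) (topK [tl1]) (tl0.Pt 0)) = true := by decide +kernel
theorem cnc4_e_0 : allZ (dent cnc4 cne_P (nat_lit 13920)) (nat_lit 0) (nat_lit 3) = true := by decide +kernel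
theorem cftn2_1_0 : allZ (cftn2.ent Tm cfth_P cfx_P cftn1y14_P cftr2k_P (nat_lit 6) (nat_lit 1) B1 cftl5 [] (fun _ => nat_lit 1)) (nat_lit 0) (nat_lit 2) = true := by decide +kernel
theorem clc3_e_0 : allZ (dent clc3 cle_P (nat_lit 13920)) (nat_lit 0) (nat_lit 3) = true := by decide +kernel
theorem cttn4_1_0 : allZ (cttn4.ent Tm ctth_P ctx_P cttn1y5460_P cttr4k_P (nat_lit 6) (nat_lit 3) B1 cttl3 [] (fun _ => nat_lit 1)) (nat_lit 0) (nat_lit 2) = true := by decide +kernel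
theorem cttn2_1_0 : allZ (cttn2.ent Tm ctth_P ctx_P cttn1y229_P cttr2k_P (nat_lit 6) (nat_lit 3) B1 cttl3 [] (fun _ => nat_lit 1)) (nat_lit 0) (nat_lit 2) = true := by decide +kernel
theorem witn2_1_0 : allZ (witn2.ent Tm with_P wix_P witn1y2385_P witr2k_P (nat_lit 6) (nat_lit 3) B1 witl3 [] (fun _ => nat_lit 1)) (nat_lit 0) (nat_lit 2) = true := by decide +kernel
theorem cftn9_1_0 : allZ (cftn9.ent Tm cfth_P cfx_P cftn8y52_P cftr9k_P (nat_lit 6) (nat_lit 1) B1 cftl3 [cftl4, cftl5] (fun _ => nat_lit 1)) (nat_lit 0) (nat_lit 2) = true := by decide +kernel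
theorem cltn8_1_0 : allZ (cltn8.ent Tm clth_P clx_P cltn7y461_P cltr8k_P (nat_lit 5) (nat_lit 1) B1 cltl5 [] (fun _ => nat_lit 1)) (nat_lit 0) (nat_lit 2) = true := by decide +kernel
theorem cltn1_1_0 : allZ (cltn1.ent Tm clth_P clx_P clx_P cle_P (nat_lit 5) (nat_lit 1) B1 cltl3 [cltl4, cltl5] (memO clc3)) (nat_lit 0) (nat_lit 4) = true := by decide +kernel
theorem cntn0_1_0 : allZ (cntn0.ent Tm cnth_P cnx_P cnx_P cne_P (nat_lit 5) (nat_lit 2) B1 cntl4 [] (memO cnc4)) (nat_lit 0) (nat_lit 4) = true := by decide +kernel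
theorem cfc5_e_0 : allZ (dent cfc5 cfe_P (nat_lit 13920)) (nat_lit 0) (nat_lit 1) = true := by decide +kernel
theorem clc1_e_0 : allZ (dent clc1 cle_P (nat_lit 13920)) (nat_lit 0) (nat_lit 1) = true := by decide +kernel
theorem tl1_e_0 : allZ (dent tl1 (wdsP tP te) (nat_lit 1792)) (nat_lit 0) (nat_lit 3) = true := by decide +kernel
theorem bic0_e_0 : allZ (dent bic0 bie_P (nat_lit 13920)) (nat_lit 0) (nat_lit 1) = true := by decide +kernel
theorem clc5_e_0 : allZ (dent clc5 cle_P (nat_lit 13920)) (nat_lit 0) (nat_lit 1) = true := by decide +kernel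
theorem cntl3_e_0 : allZ (dent cntl3 cnth_P (nat_lit 13920)) (nat_lit 0) (nat_lit 1) = true := by decide +kernel
theorem cfc3_e_0 : allZ (dent cfc3 cfe_P (nat_lit 13920)) (nat_lit 0) (nat_lit 1) = true := by decide +kernel
theorem wic3_e_0 : allZ (dent wic3 wie_P (nat_lit 13920)) (nat_lit 0) (nat_lit 1) = true := by decide +kernel
theorem bic3_e_0 : allZ (dent bic3 bie_P (nat_lit 13920)) (nat_lit 0) (nat_lit 1) = true := by decide +kernel
theorem cttl3_e_0 : allZ (dent cttl3 ctth_P (nat_lit 13920)) (nat_lit 0) (nat_lit 1) = true := by decide +kernel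
theorem cktl3_e_0 : allZ (dent cktl3 ckth_P (nat_lit 13920)) (nat_lit 0) (nat_lit 1) = true := by decide +kernel
theorem cptl3_e_0 : allZ (dent cptl3 cpth_P (nat_lit 13920)) (nat_lit 0) (nat_lit 1) = true := by decide +kernel
theorem cvtl3_e_0 : allZ (dent cvtl3 cvth_P (nat_lit 13920)) (nat_lit 0) (nat_lit 1) = true := by decide +kernel
theorem cftl2_e_0 : allZ (dent cftl2 cfth_P (nat_lit 13920)) (nat_lit 0) (nat_lit 1) = true := by decide +kernel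
theorem bitn0_1_0 : allZ (bitn0.ent Tm bith_P bix_P bix_P bie_P (nat_lit 6) (nat_lit 3) B1 bitl3 [] (memO bic3)) (nat_lit 0) (nat_lit 2) = true := by decide +kernel
theorem cftn3_1_0 : allZ (cftn3.ent Tm cfth_P cfx_P cfx_P cfe_P (nat_lit 6) (nat_lit 1) B1 cftl3 [cftl4, cftl5] (memO cfc3)) (nat_lit 0) (nat_lit 2) = true := by decide +kernel
theorem cktn0_1_0 : allZ (cktn0.ent Tm ckth_P ckx_P ckx_P cke_P (nat_lit 6) (nat_lit 2) B1 cktl3 [] (memO ckc3)) (nat_lit 0) (nat_lit 2) = true := by decide +kernel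
theorem cltn3_1_0 : allZ (cltn3.ent Tm clth_P clx_P clx_P cle_P (nat_lit 5) (nat_lit 1) B1 cltl1 [cltl2, cltl3, cltl4, cltl5] (memO clc1)) (nat_lit 0) (nat_lit 2) = true := by decide +kernel
theorem cvtn0_1_0 : allZ (cvtn0.ent Tm cvth_P cvx_P cvx_P cve_P (nat_lit 6) (nat_lit 3) B1 cvtl3 [] (memO cvc3)) (nat_lit 0) (nat_lit 2) = true := by decide +kernel
theorem wic0_e_0 : allZ (dent wic0 wie_P (nat_lit 13920)) (nat_lit 0) (nat_lit 1) = true := by decide +kernel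
theorem wzpc0_e_0 : allZ (dent wzpc0 wzpe_P (nat_lit 13920)) (nat_lit 0) (nat_lit 1) = true := by decide +kernel
theorem pf_f0 : (Nat.ble pfl0.K 5 && Nat.ble (topK []) pfl0.K && fixLetters (wdsP pfP pfe) (topK []) (pfl0.Pt 0)) = true := by decide +kernel

end H15.NS.ON
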